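import Cfsg.Agent.Lib.MinIndexPSU4.FreeCase
import Cfsg.Agent.Lib.Classical.Herm.Std

/-!
The minimal index of a proper subgroup of `PSU₄(q)` is `(q + 1)(q³ + 1)`.
-/

set_option autoImplicit false
set_option linter.unusedSectionVars false

namespace CfsgLib.MinIndexPSU4

open Matrix CfsgLib.MinDeg Finset

variable {F : Type*} [Field F] [StarRing F] [Fintype F] {q : ℕ}

/-- `SU₄(q)` with its two Siegel radicals. -/
theorem exists_siegel (hF : Fintype.card F = q ^ 2) (hs : ∀ x : F, star x = x ^ q) :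
    Nonempty (SiegelData (Cfsg.SU 4 F q) F 2 (1 : F)) := by
  classical
  obtain ⟨M, hM⟩ := exists_hyperbolic_basis hF hs 2
  let e : Fin 4 ≃ Fin 2 ⊕ Fin 2 := (finCongr (by norm_num : 4 = 2 + 2)).trans finSumFinEquiv.symm
  have hMd : IsUnit M.det := by
    rw [isUnit_iff_ne_zero]
    intro h0
    have hJ := congrArg det hM
    rw [det_mul, h0, mul_zero] at hJ
    have : formJ 2 (1 : F) * formJ 2 (1 : F) = 1 := by simp [formJ, fromBlocks_multiply]
    have := congrArg det this
    rw [det_mul, ← hJ] at this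
    simp at this
  let c : Cfsg.SU 4 F q → Matrix (Fin 2 ⊕ Fin 2) (Fin 2 ⊕ Fin 2) F :=
    fun g => (g.1 : Matrix (Fin 4) (Fin 4) F).submatrix e.symm e.symm
  have hc : ∀ g h, c (g * h) = c g * c h := fun g h => (submatrix_mul_equiv _ _ _ e.symm _).symm
  have hMi : (M⁻¹)ᴴ * formJ 2 1 * M⁻¹ = 1 := by
    rw [← hM, ← Matrix.mul_assoc, ← conjTranspose_mul, mul_nonsing_inv _ hMd, conjTranspose_one,
      Matrix.one_mul, mul_nonsing_inv _ hMd]
  let f : Cfsg.SU 4 F q →* Matrix (Fin 2 ⊕ Fin 2) (Fin 2 ⊕ Fin 2) F :=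
    { toFun := fun g => M⁻¹ * c g * M
      map_one' := by simp [c, nonsing_inv_mul _ hMd]
      map_mul' := fun g h => by
        rw [hc]; simp only [Matrix.mul_assoc, mul_nonsing_inv_cancel_left _ _ hMd] }
  have hc1 : ∀ g, (c g)ᴴ * c g = 1 := fun g => by
    rw [conjTranspose_submatrix, submatrix_mul_equiv, (mem_SU_iff hs g.1).1 g.2, submatrix_one_equiv]
  have lift : ∀ U : Matrix (Fin 2 ⊕ Fin 2) (Fin 2 ⊕ Fin 2) F, Uᴴ * formJ 2 1 * U = formJ 2 1 →
      U.det = 1 → ∃ g, f g = U := by
    intro U hU hUd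
    set V := M * U * M⁻¹ with hV
    have hVd : V.det = 1 := by
      rw [hV, det_mul, det_mul, hUd, mul_one, ← det_mul, mul_nonsing_inv _ hMd, det_one]
    have hVu : Vᴴ * V = 1 := by
      rw [hV, conjTranspose_mul, conjTranspose_mul]
      calc (M⁻¹)ᴴ * (Uᴴ * Mᴴ) * (M * U * M⁻¹) = (M⁻¹)ᴴ * (Uᴴ * (Mᴴ * M) * U) * M⁻¹ := by
            simp only [Matrix.mul_assoc]
        _ = 1 := by rw [hM, hU, hMi]
    refine ⟨⟨⟨V.submatrix e e, by rw [det_submatrix_equiv_self, hVd]⟩, (mem_SU_iff hs _).2 ?_⟩, ?_⟩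
    · show (V.submatrix e e)ᴴ * V.submatrix e e = 1
      rw [conjTranspose_submatrix, submatrix_mul_equiv, hVu, submatrix_one_equiv]
    · show M⁻¹ * (V.submatrix e e).submatrix e.symm e.symm * M = U
      rw [submatrix_submatrix]
      simp only [Equiv.self_comp_symm, submatrix_id_id, hV, Matrix.mul_assoc,
        nonsing_inv_mul _ hMd, Matrix.mul_one, nonsing_inv_mul_cancel_left _ _ hMd]
  have hup : ∀ H : skewPart 2 (1 : F), ∃ g, f g = upperU H.1 := fun H => lift _ (by
    have hH := mem_skewPart.1 H.2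
    simp [formJ, upperU, fromBlocks_conjTranspose, fromBlocks_multiply, hH]) (by simp [upperU])
  have hlo : ∀ H : skewPart 2 (1 : F), ∃ g, f g = lowerU H.1 := fun H => lift _ (by
    have hH := mem_skewPart.1 H.2
    simp [formJ, lowerU, fromBlocks_conjTranspose, fromBlocks_multiply, hH]) (by simp [lowerU])
  choose u hu using hup
  choose l hl using hlo
  exact ⟨{
      f := f
      inj := fun g h hgh => by
        have h1 : M⁻¹ * c g * M = M⁻¹ * c h * M := hgh
        have h2 : c g = c h := by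
          have := congrArg (fun X => M * X * M⁻¹) h1
          simpa [Matrix.mul_assoc, mul_nonsing_inv_cancel_left _ _ hMd, mul_nonsing_inv _ hMd] using this
        apply Subtype.ext; apply Subtype.ext
        have := congrArg (fun X => X.submatrix e e) h2
        simpa [c, submatrix_submatrix] using this
      isometry := fun g => by
        show (M⁻¹ * c g * M)ᴴ * formJ 2 1 * (M⁻¹ * c g * M) = formJ 2 1
        rw [conjTranspose_mul, conjTranspose_mul]
        calc Mᴴ * ((c g)ᴴ * (M⁻¹)ᴴ) * formJ 2 1 * (M⁻¹ * c g * M)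
            = Mᴴ * ((c g)ᴴ * ((M⁻¹)ᴴ * formJ 2 1 * M⁻¹) * c g) * M := by simp only [Matrix.mul_assoc]
          _ = formJ 2 1 := by rw [hMi, Matrix.mul_one, hc1, Matrix.mul_one, hM]
      detCond := fun g => Or.inl <| by
        show (M⁻¹ * c g * M).det = 1
        rw [det_mul, det_mul, det_submatrix_equiv_self, g.1.2, mul_one, ← det_mul,
          nonsing_inv_mul _ hMd, det_one]
      upper := u, upper_spec := hu, lower := l, lower_spec := hl }⟩

namespace Data

variable {G : Type*} [Group G] [Finite G] (C : Data F q G)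

include C in
/-- The lower bound. -/
theorem lower_bound {Ω : Type*} [MulAction G Ω] [Finite Ω] [MulAction.IsPretransitive G Ω]
    (hne : 1 < Nat.card Ω) : (q + 1) * (q ^ 3 + 1) ≤ Nat.card Ω := by
  classical
  by_contra hlt
  push Not at hlt
  have := Fintype.ofFinite G
  have : Fintype (skS F) := Fintype.ofFinite _
  have : Fintype C.Qs := Fintype.ofFinite _
  have : Fintype C.Us := Fintype.ofFinite _
  have hU : ∃ (x : Ω) (m : C.Us), m • x ≠ x := by
    by_contra hcon
    push Not at hcon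
    obtain ⟨t, ht0, ht⟩ := exists_skew_ne_zero C.hF C.hs
    have htop := C.D.normalClosure_eq_top (mul_one 1) le_rfl (by simpa using ht) ht0
    have hle : Subgroup.normalClosure (Set.range C.D.radical) ≤ (MulAction.toPermHom G Ω).ker := by
      refine Subgroup.normalClosure_le_normal ?_
      rintro _ ⟨H, rfl⟩
      exact MonoidHom.mem_ker.2 (Equiv.ext fun x => hcon x (C.us H))
    rw [htop] at hle
    obtain ⟨a, b, hab⟩ := Finite.one_lt_card_iff_nontrivial.1 hne
    obtain ⟨g, hg⟩ := MulAction.exists_smul_eq G a b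
    refine hab ?_
    rw [← hg]
    exact (congrArg (fun e : Equiv.Perm Ω => e a) (MonoidHom.mem_ker.1 (hle (Subgroup.mem_top g)))).symm
  obtain ⟨f, hfq, hd, hf, hN⟩ := C.structure_orbits hlt hU
  have hf0 := C.no_fixed hfq hd hf
  subst hf0
  refine C.no_free (Ω := Ω) (by omega) (fun x => ?_) (by omega)
  by_contra hx
  exact (Nat.card_eq_zero.1 hf).elim (fun h => h.false ⟨x, hx⟩) fun h => h.not_finite inferInstance

/-- The stabiliser of the standard totally isotropic plane. -/
def Par : Subgroup G where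
  carrier := {g | (C.D.f g).toBlocks₂₁ = 0}
  one_mem' := by
    show (C.D.f 1).toBlocks₂₁ = 0
    rw [map_one, ← fromBlocks_one, toBlocks_fromBlocks₂₁]
  mul_mem' {a b} ha hb := by
    show (C.D.f (a * b)).toBlocks₂₁ = 0
    have ha' : (C.D.f a).toBlocks₂₁ = 0 := ha
    have hb' : (C.D.f b).toBlocks₂₁ = 0 := hb
    rw [map_mul, ← fromBlocks_toBlocks (C.D.f a), ← fromBlocks_toBlocks (C.D.f b),
      fromBlocks_multiply, toBlocks_fromBlocks₂₁, ha', hb', Matrix.zero_mul, Matrix.mul_zero,
      add_zero]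
  inv_mem' {a} ha := by
    have key : ∀ j : ℕ, (C.D.f (a ^ j)).toBlocks₂₁ = 0 := by
      intro j
      induction j with
      | zero => rw [pow_zero, map_one, ← fromBlocks_one, toBlocks_fromBlocks₂₁]
      | succ j ih =>
        have ha' : (C.D.f a).toBlocks₂₁ = 0 := ha
        rw [pow_succ, map_mul, ← fromBlocks_toBlocks (C.D.f (a ^ j)),
          ← fromBlocks_toBlocks (C.D.f a), fromBlocks_multiply, toBlocks_fromBlocks₂₁, ih, ha',
          Matrix.zero_mul, Matrix.mul_zero, add_zero]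
    show (C.D.f a⁻¹).toBlocks₂₁ = 0
    rw [inv_eq_of_mul_eq_one_right (show a * a ^ (orderOf a - 1) = 1 by
      rw [← pow_succ', Nat.sub_add_cancel (orderOf_pos a), pow_orderOf_eq_one])]
    exact key _

/-- Upper Siegel times Levi. -/
noncomputable def parMap (p : skewPart 2 (1 : F) × LevA F) : C.Par :=
  ⟨C.D.upper p.1 * C.lv p.2, by
    show (C.D.f _).toBlocks₂₁ = 0
    rw [map_mul, C.D.upper_spec, f_lv, upperU, leviM, fromBlocks_multiply, toBlocks_fromBlocks₂₁]
    simp⟩

theorem parMap_bij (hst : ¬ ∀ x : F, star x = x) : Function.Bijective C.parMap := by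
  constructor
  · intro p p' h
    have h' := congrArg (fun g : C.Par => C.D.f g.1) h
    simp only [parMap, map_mul, C.D.upper_spec, f_lv, upperU, leviM, fromBlocks_multiply,
      fromBlocks_inj] at h'
    obtain ⟨h1, h2, -, -⟩ := h'
    simp only [Matrix.mul_zero, add_zero, Matrix.one_mul, zero_add] at h1 h2
    have hA : p.2 = p'.2 := Subtype.ext h1
    refine Prod.ext (Subtype.ext ?_) hA
    rw [← hA] at h2
    have hu : IsUnit ((p.2.1⁻¹)ᴴ).det := by
      rw [det_conjTranspose, det_nonsing_inv, Ring.inverse_eq_inv']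
      exact (Ne.isUnit (inv_ne_zero p.2.2.1)).star
    have h3 := congrArg (fun X => X * ((p.2.1⁻¹)ᴴ)⁻¹) h2
    simpa [Matrix.mul_assoc, mul_nonsing_inv _ hu] using h3
  · rintro ⟨g, hg⟩
    have hg' : (C.D.f g).toBlocks₂₁ = 0 := hg
    obtain ⟨A, B, hAB⟩ : ∃ A B, C.D.f g = fromBlocks A B 0 (C.D.f g).toBlocks₂₂ :=
      ⟨_, _, by conv_lhs => rw [← fromBlocks_toBlocks (C.D.f g), hg']⟩
    have hiso := C.D.isometry g
    rw [hAB, formJ, fromBlocks_conjTranspose, fromBlocks_multiply, fromBlocks_multiply,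
      fromBlocks_inj] at hiso
    simp only [conjTranspose_zero, Matrix.mul_zero, Matrix.zero_mul, add_zero, zero_add,
      Matrix.mul_one, one_smul] at hiso
    obtain ⟨-, h12, -, h22⟩ := hiso
    set E := (C.D.f g).toBlocks₂₂
    have hdet : (C.D.f g).det = 1 := (C.D.detCond g).resolve_right hst
    rw [hAB, det_fromBlocks_zero₂₁] at hdet
    have h12' := congrArg det h12
    rw [det_mul, det_conjTranspose, det_one] at h12'
    have hA0 : A.det ≠ 0 := fun h => by rw [h, zero_mul] at hdet; exact zero_ne_one hdet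
    have hE0 : E.det ≠ 0 := fun h => by rw [h, mul_zero] at hdet; exact zero_ne_one hdet
    have hA' : star A.det = A.det := mul_right_cancel₀ hE0 (h12'.trans hdet.symm)
    have hu : IsUnit A.det := Ne.isUnit hA0
    have hE : E = (A⁻¹)ᴴ := by
      calc E = (A⁻¹)ᴴ * (Aᴴ * E) := by
            rw [← Matrix.mul_assoc, ← conjTranspose_mul, mul_nonsing_inv _ hu, conjTranspose_one,
              Matrix.one_mul]
        _ = (A⁻¹)ᴴ := by rw [h12, Matrix.mul_one]
    have hH : B * Aᴴ ∈ skewPart 2 (1 : F) := by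
      have h := congrArg (fun X => A * X * Aᴴ) h22
      simp only [hE, conjTranspose_conjTranspose, Matrix.mul_add, Matrix.add_mul, Matrix.mul_zero,
        Matrix.zero_mul] at h
      simp only [Matrix.mul_assoc, ← conjTranspose_mul A⁻¹, mul_nonsing_inv_cancel_left _ _ hu] at h
      rw [mem_skewPart, conjTranspose_mul, conjTranspose_conjTranspose, one_smul,
        eq_neg_iff_add_eq_zero, add_comm, ← h]
      simp [← conjTranspose_mul, mul_nonsing_inv _ hu, ← Matrix.mul_assoc]
    refine ⟨(⟨_, hH⟩, ⟨A, hA0, hA'⟩), Subtype.ext (C.D.inj ?_)⟩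
    show C.D.f (C.D.upper _ * C.lv _) = C.D.f g
    rw [map_mul, C.D.upper_spec, f_lv, hAB, upperU, leviM, fromBlocks_multiply, hE]
    simp [Matrix.mul_assoc, ← conjTranspose_mul, nonsing_inv_mul _ hu]

include C in
theorem card_levA : Nat.card (LevA F) = (q - 1) * (q ^ 2 * ((q ^ 2) ^ 2 - 1)) := by
  classical
  let D : F → Matrix (Fin 2) (Fin 2) F := fun δ => !![δ, 0; 0, 1]
  have hD : ∀ δ, (D δ).det = δ := fun δ => by simp [D, det_fin_two]
  let e : LevA F ≃ {δ : F // star δ = δ ∧ δ ≠ 0} × SpecialLinearGroup (Fin 2) F :=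
    { toFun := fun A => (⟨A.1.det, A.2.2, A.2.1⟩, ⟨D A.1.det⁻¹ * A.1, by
        rw [det_mul, hD, inv_mul_cancel₀ A.2.1]⟩)
      invFun := fun p => ⟨D p.1.1 * p.2.1, by rw [det_mul, hD, p.2.2, mul_one]; exact p.1.2.2,
        by rw [det_mul, hD, p.2.2, mul_one]; exact p.1.2.1⟩
      left_inv := fun A => Subtype.ext (by
        show D A.1.det * (D A.1.det⁻¹ * A.1) = A.1
        rw [← Matrix.mul_assoc]
        simp [D, Matrix.mul_fin_two, A.2.1, ← one2])
      right_inv := fun p => by
        have hd : (D p.1.1 * p.2.1).det = p.1.1 := by rw [det_mul, hD, p.2.2, mul_one]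
        refine Prod.ext (Subtype.ext hd) (Subtype.ext ?_)
        show D (D p.1.1 * p.2.1).det⁻¹ * (D p.1.1 * p.2.1) = p.2.1
        rw [hd, ← Matrix.mul_assoc]
        simp [D, Matrix.mul_fin_two, p.1.2.2, ← one2] }
  rw [Nat.card_congr e, Nat.card_prod, Linear.card_SL_two, C.hF, Nat.card_eq_fintype_card,
    Fintype.card_subtype, C.card_real_ne_zero]

theorem card_par : Nat.card C.Par = q ^ 4 * ((q - 1) * (q ^ 2 * ((q ^ 2) ^ 2 - 1))) := by
  have hst : ¬ ∀ x : F, star x = x := fun h => by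
    classical
    obtain ⟨x, hx⟩ := exists_star_ne C.hF C.hs
    exact hx (h x)
  rw [← Nat.card_congr (Equiv.ofBijective _ (C.parMap_bij hst)), Nat.card_prod, C.card_levA,
    Nat.card_congr skEquiv, Nat.card_prod, Nat.card_prod, C.card_skS, Nat.card_eq_fintype_card,
    C.hF]
  ring

theorem center_le_par : Subgroup.center G ≤ C.Par := by
  intro z hz
  show (C.D.f z).toBlocks₂₁ = 0
  obtain ⟨β, hβ⟩ := C.exists_beta
  have h := congrArg C.D.f (Subgroup.mem_center_iff.1 hz (C.D.upper (skM β 0 β)))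
  rw [map_mul, map_mul, C.D.upper_spec, upperU, ← fromBlocks_toBlocks (C.D.f z),
    fromBlocks_multiply, fromBlocks_multiply, fromBlocks_inj] at h
  have h22 := h.2.2.2
  simp only [Matrix.zero_mul, Matrix.one_mul, Matrix.mul_one, zero_add] at h22
  have hz0 : (C.D.f z).toBlocks₂₁ * (skM β 0 β).1 = 0 := by
    have := h22.symm
    exact add_eq_right.1 this
  have hsc : (skM β 0 β).1 = β.1 • (1 : Matrix (Fin 2) (Fin 2) F) := by
    simp [skM, one2, Matrix.smul_of]
  rw [hsc, Matrix.mul_smul, Matrix.mul_one, smul_eq_zero] at hz0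
  exact hz0.resolve_left hβ

end Data

/-- The theorem on `PSU₄(q)`. -/
theorem psu_four_min_index {K : Type*} [Field K] [Fintype K] {q : ℕ}
    (hF : Fintype.card K = q ^ 2) :
    (∀ H : Subgroup (Cfsg.PSU 4 K q), H ≠ ⊤ → (q + 1) * (q ^ 3 + 1) ≤ H.index) ∧
      ∃ H : Subgroup (Cfsg.PSU 4 K q), H.index = (q + 1) * (q ^ 3 + 1) := by
  classical
  obtain ⟨S, hS⟩ := exists_frob_star hF
  letI := S
  obtain ⟨D⟩ := exists_siegel hF hS
  obtain ⟨C⟩ := exists_data hF hS D
  have hsurj := QuotientGroup.mk'_surjective (Subgroup.center (Cfsg.SU 4 K q))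
  refine ⟨fun H hH => ?_, ⟨C.Par.map (QuotientGroup.mk' _), ?_⟩⟩
  · rw [← Subgroup.index_comap_of_surjective H hsurj]
    set H' := H.comap (QuotientGroup.mk' (Subgroup.center (Cfsg.SU 4 K q)))
    have h1 : H'.index ≠ 1 := fun h => hH (by
      have h' : H' = ⊤ := Subgroup.index_eq_one.1 h
      rw [← Subgroup.map_comap_eq_self_of_surjective hsurj H, show H.comap _ = ⊤ from h',
        Subgroup.map_top_of_surjective _ hsurj])
    have h0 : H'.index ≠ 0 := Subgroup.index_ne_zero_of_finite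
    rw [Subgroup.index_eq_card] at h0 h1 ⊢
    exact C.lower_bound (by omega)
  · rw [Subgroup.index_map_eq _ hsurj (by rw [QuotientGroup.ker_mk']; exact C.center_le_par)]
    have hq := C.q_two
    have hpos : 0 < Nat.card C.Par := Nat.card_pos
    refine Nat.eq_of_mul_eq_mul_left hpos ?_
    rw [Subgroup.card_mul_index, C.card_par]
    have hsu := Classical.Herm.card_unit_eq_mul_su hF (show 1 ≤ 4 by norm_num)
    rw [Classical.Herm.card_unit hF 4] at hsu
    simp only [Finset.prod_range_succ, Finset.prod_range_zero, one_mul] at hsu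
    rw [if_pos (show Even 0 by decide), if_neg (show ¬ Even 1 by decide),
      if_pos (show Even 2 by decide), if_neg (show ¬ Even 3 by decide)] at hsu
    refine Nat.eq_of_mul_eq_mul_left (show 0 < q + 1 by omega) ?_
    rw [hsu, show (q ^ 2) ^ 2 = q ^ 4 by ring]
    obtain ⟨r, rfl⟩ : ∃ r, q = r + 1 := ⟨q - 1, by omega⟩
    have e2 : (r + 1) ^ 2 - 1 = r * (r + 2) := by
      rw [show (r + 1) ^ 2 = r * (r + 2) + 1 by ring, Nat.add_sub_cancel]
    rw [e2, Nat.add_sub_cancel]
    ring

end CfsgLib.MinIndexPSU4
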