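import Cfsg.Agent.Lib.MinIndexPSp.Basic

/-!
Multiplicities of the linear characters in a permutation action, orbit by orbit: for a group `M`
with a map `φ` onto a finite abelian group `W` and a perfect pairing `P` on `W`, the multiplicity
of `w` is the number of orbits whose stabiliser is killed by `P w ∘ φ`.
-/

set_option autoImplicit false
set_option linter.unusedSectionVars false

namespace CfsgLib.MinIndexPSU4

open CfsgLib.MinIndexPSp

/-- A group `M` over a finite abelian group `W` with a pairing. -/
structure Layer (M W : Type*) [Group M] [AddCommGroup W] where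
  φ : M →* Multiplicative W
  surj : Function.Surjective φ
  P : W → AddChar W ℂ
  hadd : ∀ x y, P (x + y) = P x * P y
  hinj : Function.Injective P

namespace Layer

variable {M W : Type*} [Group M] [AddCommGroup W] [Finite W] (L : Layer M W)
variable {Ω : Type*} [MulAction M Ω]

/-- The coordinate of an element. -/
def co (m : M) : W := (L.φ m).toAdd

theorem co_mul (m n : M) : L.co (m * n) = L.co m + L.co n := by simp [co]

theorem co_one : L.co 1 = 0 := by simp [co]

theorem co_inv (m : M) : L.co m⁻¹ = -L.co m := by simp [co]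

theorem co_surj (w : W) : ∃ m, L.co m = w := by
  obtain ⟨m, hm⟩ := L.surj (Multiplicative.ofAdd w)
  exact ⟨m, by simp [co, hm]⟩

theorem co_eq_zero {m : M} : L.co m = 0 ↔ m ∈ L.φ.ker := by
  simp [co, MonoidHom.mem_ker]

/-- The image of a stabiliser. -/
def img (x : Ω) : AddSubgroup W where
  carrier := {w | ∃ m : M, m • x = x ∧ L.co m = w}
  add_mem' := by
    rintro a b ⟨m, hm, rfl⟩ ⟨n, hn, rfl⟩
    exact ⟨m * n, by rw [mul_smul, hn, hm], L.co_mul m n⟩
  zero_mem' := ⟨1, one_smul _ _, L.co_one⟩
  neg_mem' := by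
    rintro a ⟨m, hm, rfl⟩
    exact ⟨m⁻¹, by rw [inv_smul_eq_iff, hm], L.co_inv m⟩

theorem mem_img {x : Ω} {w : W} : w ∈ L.img x ↔ ∃ m : M, m • x = x ∧ L.co m = w := Iff.rfl

/-- The annihilator of the image of a stabiliser. -/
def ann (x : Ω) : AddSubgroup W := dualAnn L.P L.hadd (L.img x)

theorem mem_ann {x : Ω} {w : W} : w ∈ L.ann x ↔ ∀ m : M, m • x = x → L.P w (L.co m) = 1 := by
  refine ⟨fun h m hm => h _ ⟨m, hm, rfl⟩, fun h v hv => ?_⟩
  obtain ⟨m, hm, rfl⟩ := hv
  exact h m hm

theorem zero_mem_ann (x : Ω) : (0 : W) ∈ L.ann x := zero_mem _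

theorem img_smul (n : M) (x : Ω) : L.img (n • x) = L.img x := by
  have key : ∀ (n : M) (x : Ω), L.img x ≤ L.img (n • x) := by
    rintro n x w ⟨m, hm, rfl⟩
    refine ⟨n * m * n⁻¹, by rw [mul_smul, mul_smul, inv_smul_smul, hm], ?_⟩
    rw [co_mul, co_mul, co_inv]; abel
  refine le_antisymm ?_ (key n x)
  have h := key n⁻¹ (n • x)
  rwa [inv_smul_smul] at h

theorem ann_smul (n : M) (x : Ω) : L.ann (n • x) = L.ann x := by rw [ann, ann, img_smul]

/-- The orbits. -/
abbrev Orb (M Ω : Type*) [Group M] [MulAction M Ω] := Quotient (MulAction.orbitRel M Ω)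

/-- The annihilator of an orbit. -/
def annO : Orb M Ω → AddSubgroup W :=
  Quotient.lift L.ann fun a b h => by
    obtain ⟨n, rfl⟩ := h
    exact L.ann_smul n b

@[simp] theorem annO_mk (x : Ω) : L.annO (Quotient.mk _ x) = L.ann x := rfl

/-- The number of orbits satisfying `p` whose annihilator contains `w`. -/
noncomputable def multP (p : Orb M Ω → Prop) (w : W) : ℕ :=
  Nat.card {o : Orb M Ω // p o ∧ w ∈ L.annO o}

/-- The multiplicity of a linear character. -/
noncomputable def mult (Ω : Type*) [MulAction M Ω] (w : W) : ℕ :=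
  Nat.card {o : Orb M Ω // w ∈ L.annO o}

theorem multP_le [Finite Ω] (p : Orb M Ω → Prop) (w : W) : L.multP p w ≤ L.mult Ω w :=
  Nat.card_le_card_of_injective (fun o => ⟨o.1, o.2.2⟩) fun a b h =>
    Subtype.ext (by simpa using congrArg Subtype.val h)

theorem mult_pos [Finite Ω] {x : Ω} {w : W} (h : w ∈ L.ann x) : 0 < L.mult Ω w :=
  Nat.card_pos_iff.2 ⟨⟨⟨Quotient.mk _ x, h⟩⟩, inferInstance⟩

theorem mult_zero : L.mult Ω 0 = Nat.card (Orb M Ω) :=
  Nat.card_congr (Equiv.subtypeUnivEquiv fun o => zero_mem _)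

theorem sum_multP [Fintype W] [Finite Ω] (p : Orb M Ω → Prop) [DecidablePred p]
    [Fintype (Orb M Ω)] :
    ∑ w : W, L.multP p w = ∑ o ∈ Finset.univ.filter p, Nat.card (L.annO o) := by
  classical
  simp only [multP, Nat.card_eq_fintype_card, Fintype.card_subtype]
  simp only [Finset.card_filter]
  rw [Finset.sum_comm, Finset.sum_filter]
  refine Finset.sum_congr rfl fun o _ => ?_
  by_cases h : p o <;> simp [h]

theorem sum_mult [Fintype W] [Finite Ω] [Fintype (Orb M Ω)] :
    ∑ w : W, L.mult Ω w = ∑ o : Orb M Ω, Nat.card (L.annO o) := by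
  classical
  simp only [mult, Nat.card_eq_fintype_card, Fintype.card_subtype, Finset.card_filter]
  rw [Finset.sum_comm]

theorem card_ann_mul (x : Ω) : Nat.card (L.ann x) * Nat.card (L.img x) = Nat.card W := by
  rw [ann, card_dualAnn L.P L.hadd L.hinj, ← AddSubgroup.card_eq_card_quotient_mul_card_addSubgroup]

theorem mem_img_iff {x : Ω} {v : W} : v ∈ L.img x ↔ ∀ w ∈ L.ann x, L.P w v = 1 :=
  ⟨fun h w hw => hw v h, fun h => mem_of_forall_dualAnn L.P L.hadd L.hinj _ h⟩

variable [Finite M]

/-- The size of an orbit is the size of its annihilator times the size of a kernel orbit. -/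
theorem card_orbit (x : Ω) :
    Nat.card (MulAction.orbit M x) =
      Nat.card (MulAction.orbit L.φ.ker x) * Nat.card (L.ann x) := by
  have hf : ∀ (N : Subgroup M), Nat.card (MulAction.orbit N x) *
      Nat.card (MulAction.stabilizer N x) = Nat.card N := fun N => by
    rw [← Nat.card_prod, Nat.card_congr (MulAction.orbitProdStabilizerEquivGroup N x)]
  have hM : Nat.card (MulAction.orbit M x) * Nat.card (MulAction.stabilizer M x) = Nat.card M := by
    rw [← Nat.card_prod, Nat.card_congr (MulAction.orbitProdStabilizerEquivGroup M x)]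
  have hW : Nat.card M = Nat.card W * Nat.card L.φ.ker := by
    rw [Subgroup.card_eq_card_quotient_mul_card_subgroup L.φ.ker,
      Nat.card_congr (QuotientGroup.quotientKerEquivOfSurjective _ L.surj).toEquiv,
      Nat.card_congr Multiplicative.toAdd]
  let ψ : MulAction.stabilizer M x →* Multiplicative W :=
    L.φ.comp (MulAction.stabilizer M x).subtype
  have h1 : Nat.card ψ.range = Nat.card (L.img x) :=
    Nat.card_congr
      { toFun := fun v => ⟨v.1.toAdd, by
          obtain ⟨m, hm⟩ := v.2
          exact ⟨m.1, MulAction.mem_stabilizer_iff.1 m.2, congrArg Multiplicative.toAdd hm⟩⟩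
        invFun := fun v => ⟨Multiplicative.ofAdd v.1, by
          obtain ⟨m, hm, hv⟩ := v.2
          exact ⟨⟨m, MulAction.mem_stabilizer_iff.2 hm⟩, by simp [ψ, ← hv, co]⟩⟩
        left_inv := fun v => rfl
        right_inv := fun v => rfl }
  have h2 : Nat.card ψ.ker = Nat.card (MulAction.stabilizer L.φ.ker x) :=
    Nat.card_congr
      { toFun := fun m => ⟨⟨m.1.1, m.2⟩, MulAction.mem_stabilizer_iff.1 m.1.2⟩
        invFun := fun m => ⟨⟨m.1.1, MulAction.mem_stabilizer_iff.2 (MulAction.mem_stabilizer_iff.1 m.2)⟩, m.1.2⟩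
        left_inv := fun m => rfl
        right_inv := fun m => rfl }
  have h3 : Nat.card (MulAction.stabilizer M x) =
      Nat.card (L.img x) * Nat.card (MulAction.stabilizer L.φ.ker x) := by
    rw [Subgroup.card_eq_card_quotient_mul_card_subgroup ψ.ker,
      Nat.card_congr (QuotientGroup.quotientKerEquivRange ψ).toEquiv, h1, h2]
  refine Nat.eq_of_mul_eq_mul_right (Nat.card_pos (α := MulAction.stabilizer M x)) ?_
  rw [hM, hW, h3, ← hf L.φ.ker, ← L.card_ann_mul x]
  ring

open Classical in
theorem sum_char (H : Subgroup M) [Fintype H] (w : W) :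
    ∑ m : H, L.P w (L.co m) = if ∀ m ∈ H, L.P w (L.co m) = 1 then (Nat.card H : ℂ) else 0 := by
  classical
  let f : H →* ℂ :=
    { toFun := fun m => L.P w (L.co m)
      map_one' := by simp [co_one]
      map_mul' := fun a b => by simp [co_mul, AddChar.map_add_eq_mul] }
  split_ifs with h
  · rw [Finset.sum_congr rfl (fun (m : H) _ => h m.1 m.2)]
    simp [Nat.card_eq_fintype_card]
  · refine sum_hom_units_eq_zero f fun hf => h fun m hm => ?_
    exact DFunLike.congr_fun hf ⟨m, hm⟩

/-- Fourier expression of the multiplicity. -/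
theorem fix_sum [Fintype M] [Finite Ω] (w : W) :
    ∑ m : M, (Nat.card {x : Ω // m • x = x} : ℂ) * L.P w (L.co m) =
      Nat.card M * L.mult Ω w := by
  classical
  haveI : Fintype Ω := Fintype.ofFinite Ω
  have e1 : ∀ m : M, (Nat.card {x : Ω // m • x = x} : ℂ) * L.P w (L.co m) =
      ∑ x : Ω, if m • x = x then L.P w (L.co m) else 0 := fun m => by
    rw [← Finset.sum_filter, Finset.sum_const, nsmul_eq_mul, Nat.card_eq_fintype_card,
      Fintype.card_subtype]
  rw [Finset.sum_congr rfl fun m _ => e1 m, Finset.sum_comm]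
  have e2 : ∀ x : Ω, (∑ m : M, if m • x = x then L.P w (L.co m) else 0) =
      if w ∈ L.ann x then (Nat.card (MulAction.stabilizer M x) : ℂ) else 0 := fun x => by
    rw [← Finset.sum_filter, Finset.sum_subtype (p := fun m => m ∈ MulAction.stabilizer M x) _
      (fun m => by simp [MulAction.mem_stabilizer_iff]) (fun m => L.P w (L.co m))]
    rw [L.sum_char]
    simp only [mem_ann, MulAction.mem_stabilizer_iff]
  rw [Finset.sum_congr rfl fun x _ => e2 x,
    ← Finset.sum_fiberwise (Finset.univ : Finset Ω) (fun x : Ω => (Quotient.mk _ x : Orb M Ω))]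
  have e3 : ∀ o : Orb M Ω, (∑ x ∈ Finset.univ.filter (fun x : Ω => Quotient.mk _ x = o),
      if w ∈ L.ann x then (Nat.card (MulAction.stabilizer M x) : ℂ) else 0) =
      if w ∈ L.annO o then (Nat.card M : ℂ) else 0 := by
    intro o
    induction o using Quotient.inductionOn with
    | h y =>
      have hmem : ∀ x : Ω, x ∈ Finset.univ.filter (fun x : Ω =>
          (Quotient.mk _ x : Orb M Ω) = Quotient.mk _ y) → ∃ n : M, n • y = x := fun x hx => by
        obtain ⟨n, hn⟩ := Quotient.exact (Finset.mem_filter.1 hx).2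
        exact ⟨n, hn⟩
      rw [Finset.sum_congr rfl (g := fun _ => if w ∈ L.ann y then
        (Nat.card (MulAction.stabilizer M y) : ℂ) else 0)]
      · rw [Finset.sum_const, annO_mk]
        split_ifs
        · rw [nsmul_eq_mul, ← Nat.cast_mul]
          congr 1
          rw [← Nat.card_congr (MulAction.orbitProdStabilizerEquivGroup M y), Nat.card_prod]
          congr 1
          rw [← Nat.card_eq_finsetCard]
          refine Nat.card_congr (Equiv.subtypeEquivRight fun x => ?_)
          simp only [Finset.mem_filter, Finset.mem_univ, true_and]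
          exact ⟨fun h => Quotient.exact h, fun h => Quotient.sound h⟩
        · simp
      · intro x hx
        obtain ⟨n, rfl⟩ := hmem x hx
        rw [ann_smul]
        congr 2
        exact Nat.card_congr (MulAction.stabilizerEquivStabilizer (g := n⁻¹)
          (inv_smul_smul n y).symm).toEquiv
  rw [Finset.sum_congr rfl fun o _ => e3 o, ← Finset.sum_filter, Finset.sum_const, nsmul_eq_mul,
    mult, Nat.card_eq_fintype_card (α := {o // w ∈ L.annO o}), Fintype.card_subtype, mul_comm]

end Layer

/-- Sums of multiplicities against a function which is orthogonal to the rest. -/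
theorem Layer.fix_sum_set {M W : Type*} [Group M] [AddCommGroup W] [Finite W] [Fintype M]
    (L : Layer M W) {Ω : Type*} [MulAction M Ω] [Finite Ω] {ι : Type*} (s : Finset ι) (j : ι → W) :
    ∑ m : M, (Nat.card {x : Ω // m • x = x} : ℂ) * ∑ i ∈ s, L.P (j i) (L.co m) =
      Nat.card M * ((∑ i ∈ s, L.mult Ω (j i) : ℕ) : ℂ) := by
  simp only [Finset.mul_sum, Nat.cast_sum]
  rw [Finset.sum_comm]
  exact Finset.sum_congr rfl fun i _ => L.fix_sum (j i)

/-! ### Symmetries -/

/-- An element of `G` normalising the layer, with the induced map on the dual. -/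
structure Sym {G : Type*} [Group G] {N : Subgroup G} {W : Type*} [AddCommGroup W]
    (L : Layer N W) (g : G) (τ : W → W) : Prop where
  conj : ∀ m : N, ∃ m' : N, (m' : G) = g * m * g⁻¹ ∧ ∀ w, L.P w (L.co m') = L.P (τ w) (L.co m)

namespace Sym

variable {G : Type*} [Group G] [Finite G] {N : Subgroup G} {W : Type*} [AddCommGroup W] [Finite W]
  {L : Layer N W} {g : G} {τ : W → W} (S : Sym L g τ) {Ω : Type*} [MulAction G Ω]

include S

theorem conj_surj (m' : N) : ∃ m : N, (m' : G) = g * m * g⁻¹ ∧
    ∀ w, L.P w (L.co m') = L.P (τ w) (L.co m) := by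
  choose f hf using S.conj
  have hinj : Function.Injective f := fun a b h => by
    have := congrArg (Subtype.val : N → G) h
    rw [(hf a).1, (hf b).1] at this
    exact Subtype.ext (mul_left_cancel (mul_right_cancel this))
  obtain ⟨m, rfl⟩ := (Finite.injective_iff_surjective.1 hinj) m'
  exact ⟨m, hf m⟩

theorem smul_mem_iff (x : Ω) {w : W} : w ∈ L.ann (g • x) ↔ τ w ∈ L.ann x := by
  simp only [L.mem_ann]
  constructor
  · intro h m hm
    obtain ⟨m', e, hP⟩ := S.conj m
    rw [← hP]
    refine h m' ?_
    rw [Subgroup.smul_def, e, mul_smul, mul_smul, inv_smul_smul]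
    exact congrArg _ hm
  · intro h m' hm'
    obtain ⟨m, e, hP⟩ := S.conj_surj m'
    rw [hP]
    refine h m ?_
    rw [Subgroup.smul_def, e, mul_smul, mul_smul, inv_smul_smul] at hm'
    exact smul_left_cancel g hm'

theorem map_orbit (x : Ω) :
    MulAction.orbit N (g • x) = (fun y => g • y) '' MulAction.orbit N x := by
  ext y
  constructor
  · rintro ⟨m', rfl⟩
    obtain ⟨m, e, -⟩ := S.conj_surj m'
    exact ⟨m • x, ⟨m, rfl⟩, by
      simp only [Subgroup.smul_def, e, mul_smul, inv_smul_smul]⟩
  · rintro ⟨_, ⟨m, rfl⟩, rfl⟩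
    obtain ⟨m', e, -⟩ := S.conj m
    exact ⟨m', by simp only [Subgroup.smul_def, e, mul_smul, inv_smul_smul]⟩

theorem card_orbit (x : Ω) :
    Nat.card (MulAction.orbit N (g • x)) = Nat.card (MulAction.orbit N x) := by
  rw [S.map_orbit]
  exact Nat.card_image_of_injective (MulAction.injective g) _

theorem orbit_eq_iff (x y : Ω) :
    MulAction.orbitRel N Ω (g • x) (g • y) ↔ MulAction.orbitRel N Ω x y := by
  show g • x ∈ MulAction.orbit N (g • y) ↔ x ∈ MulAction.orbit N y
  rw [S.map_orbit]
  exact (MulAction.injective g).mem_set_image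

/-- The induced permutation of the orbits. -/
noncomputable def perm [Finite Ω] : Layer.Orb N Ω ≃ Layer.Orb N Ω :=
  Equiv.ofBijective
    (Quotient.map (fun x => g • x) fun a b h => (S.orbit_eq_iff a b).2 h)
    (Finite.injective_iff_bijective.1 fun a b => by
      induction a using Quotient.inductionOn with
      | h x => induction b using Quotient.inductionOn with
        | h y =>
          intro h
          exact Quotient.sound ((S.orbit_eq_iff x y).1 (Quotient.exact h)))

theorem perm_mk [Finite Ω] (x : Ω) :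
    S.perm (Ω := Ω) (Quotient.mk _ x) = Quotient.mk _ (g • x) := rfl

/-- Multiplicities are invariant. -/
theorem multP_eq [Finite Ω] (p : Layer.Orb N Ω → Prop)
    (hp : ∀ x : Ω, p (Quotient.mk _ (g • x)) ↔ p (Quotient.mk _ x)) (w : W) :
    L.multP p (τ w) = L.multP p w := by
  refine Nat.card_congr ((S.perm (Ω := Ω)).subtypeEquiv fun o => ?_)
  induction o using Quotient.inductionOn with
  | h x =>
    rw [S.perm_mk, hp, Layer.annO_mk, Layer.annO_mk, S.smul_mem_iff]

theorem mult_eq [Finite Ω] (w : W) : L.mult Ω (τ w) = L.mult Ω w := by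
  refine Nat.card_congr ((S.perm (Ω := Ω)).subtypeEquiv fun o => ?_)
  induction o using Quotient.inductionOn with
  | h x => rw [S.perm_mk, Layer.annO_mk, Layer.annO_mk, S.smul_mem_iff]

end Sym

end CfsgLib.MinIndexPSU4
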