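import Cfsg.Agent.Lib.MinIndexPSU4.Field

/-!
The multiplicities on the two layers of an action of `SU₄(q)` and the equations between them.
-/

set_option autoImplicit false
set_option linter.unusedSectionVars false

namespace CfsgLib.MinIndexPSU4

open Matrix CfsgLib.MinDeg Finset

variable {F : Type*} [Field F] [StarRing F] [Fintype F] {q : ℕ} {G : Type*} [Group G] [Finite G]

open Data (tauU)

theorem tauU_upperTri (w : F) (u : skS F) (z : F) (v : skS F) :
    (tauU ⟨!![1, w; 0, 1], by simp [det_fin_two], by simp [det_fin_two]⟩ (skM u z v)).1 =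
      !![u.1, z + u.1 * w; star w * u.1 - star z, (star w * u.1 - star z) * w + (star w * z + v.1)] := by
  simp only [tauU, skM, ct2, Matrix.mul_fin_two, eq2, star_one, star_zero]
  refine ⟨?_, ?_, ?_, ?_⟩ <;> ring

theorem tauU_pivot (s : F) (u : skS F) (z : F) (v : skS F) :
    (tauU ⟨!![s, -1; 1, 0], by simp [det_fin_two], by simp [det_fin_two]⟩ (skM u z v)).1 0 0 =
      s * star s * u.1 + star s * z - s * star z + v.1 := by
  simp only [tauU, skM, ct2, Matrix.mul_fin_two, star_one, star_zero, star_neg]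
  show (star s * u.1 + 1 * -star z) * s + (star s * z + 1 * v.1) * 1 = _
  ring

theorem tauU_diag (l m : F) (h0 : l * m ≠ 0) (h : star (l * m) = l * m) (u : skS F) (z : F)
    (v : skS F) :
    (tauU (levD l m h0 h) (skM u z v)).1 =
      !![star l * u.1 * l, star l * z * m; star m * -star z * l, star m * v.1 * m] := by
  simp only [tauU, levD, skM, ct2, Matrix.mul_fin_two, eq2, star_zero]
  refine ⟨?_, ?_, ?_, ?_⟩ <;> ring

theorem skM_ext {X : skewPart 2 (1 : F)} {a : skS F} {c : F} {b : skS F}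
    (h00 : X.1 0 0 = a.1) (h01 : X.1 0 1 = c) (h11 : X.1 1 1 = b.1) : X = skM a c b := by
  have h := (skEquiv.symm_apply_apply X).symm
  rw [h]
  show skM _ _ _ = skM a c b
  congr
  · exact Subtype.ext h00
  · exact Subtype.ext h11

theorem det_mem_real (X : skewPart 2 (1 : F)) : star X.1.det = X.1.det := by
  obtain ⟨a, c, b, rfl⟩ := skM_surj X
  rw [det_skM, star_add, star_mul', star_mul', star_star, star_skS, star_skS]
  ring

namespace Data

variable (C : Data F q G) (Ω : Type*) [MulAction G Ω] [Finite Ω]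

/-- Multiplicity on the Siegel layer. -/
noncomputable def muU (X : skewPart 2 (1 : F)) : ℕ := C.LU.mult Ω X

/-- Multiplicity on the layer of the point radical. -/
noncomputable def muQ (w : F × F) : ℕ := C.LQ.mult Ω w

theorem invQ_muQ : InvQ (C.muQ Ω) where
  s1 b w := (C.symQ1 b).mult_eq w
  s2 b w := (C.symQ2 b).mult_eq w
  sD _ _ h0 h w := (C.symQD h0 h).mult_eq w

theorem muU_tau (A : LevA F) (X : skewPart 2 (1 : F)) : C.muU Ω (tauU A X) = C.muU Ω X :=
  (C.symU A).mult_eq X

/-- The multiplicity attached to an off-diagonal entry. -/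
noncomputable def bU (z : F) : ℕ := C.muU Ω (skM 0 z 0)

/-- The multiplicity at an iso vector with given second coordinate. -/
noncomputable def cQ (y : F) : ℕ := C.muQ Ω (0, y)

theorem muU_zero_left {z : F} (hz : z ≠ 0) (v : skS F) :
    C.muU Ω (skM 0 z v) = C.bU Ω z := by
  obtain ⟨t, ht⟩ := C.exists_half v.2
  set w := star (t / z) with hw
  rw [bU, ← C.muU_tau Ω ⟨!![1, w; 0, 1], by simp [det_fin_two], by simp [det_fin_two]⟩ (skM 0 z 0)]
  congr 1
  have e := tauU_upperTri w (0 : skS F) z (0 : skS F)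
  refine (skM_ext ?_ ?_ ?_).symm <;> simp [e]
  rw [hw, star_star, div_mul_cancel₀ _ hz, ← ht, ← star_mul', mul_comm z,
    div_mul_cancel₀ _ hz]
  ring

theorem bU_norm {y z : F} (hy : y ≠ 0) (h : y * star y = z * star z) :
    C.bU Ω y = C.bU Ω z := by
  obtain ⟨β, h0, rfl⟩ := C.exists_phase_of_norm_eq hy h
  have h1 : β * β⁻¹ ≠ 0 := by simp [h0]
  have h2 : star (β * β⁻¹) = β * β⁻¹ := by simp [h0]
  rw [bU, bU, ← C.muU_tau Ω (levD β β⁻¹ h1 h2) (skM 0 y 0)]
  congr 1
  have e := tauU_diag β β⁻¹ h1 h2 (0 : skS F) y (0 : skS F)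
  refine skM_ext ?_ ?_ ?_ <;> simp [e]
  ring

theorem exists_reduce_rank_two {X : skewPart 2 (1 : F)} (h : X.1.det ≠ 0) :
    ∃ z : F, z ≠ 0 ∧ z * star z = X.1.det ∧ C.muU Ω X = C.bU Ω z := by
  obtain ⟨u, z, v, rfl⟩ := skM_surj X
  by_cases hu : u.1 = 0
  · obtain rfl : u = 0 := Subtype.ext hu
    have hz : z ≠ 0 := fun e => h (by simp [det_skM, e])
    exact ⟨z, hz, by simp [det_skM], C.muU_zero_left Ω hz v⟩
  have hsu : star (u.1 * u.1) = u.1 * u.1 := by rw [star_mul', star_skS]; ring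
  obtain ⟨w, -, hw⟩ := C.exists_norm (δ := -(skM u z v).1.det / (u.1 * u.1))
    (by rw [star_div₀, star_neg, det_mem_real, hsu]) (div_ne_zero (neg_ne_zero.2 h) (mul_ne_zero hu hu))
  have hA : (!![w - z / u.1, -1; 1, 0] : Matrix (Fin 2) (Fin 2) F).det = 1 := by simp [det_fin_two]
  let A : LevA F := ⟨!![w - z / u.1, -1; 1, 0], by simp [det_fin_two], by simp [det_fin_two]⟩
  obtain ⟨u', z', v', e⟩ := skM_surj (tauU A (skM u z v))
  have h0 : u'.1 = 0 := by
    have e1 := tauU_pivot (w - z / u.1) u z v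
    change (tauU A (skM u z v)).1 0 0 = _ at e1
    rw [e] at e1
    change u'.1 = _ at e1
    rw [e1, star_sub, star_div₀, star_skS]
    rw [det_skM] at hw
    field_simp at hw ⊢
    linear_combination hw
  obtain rfl : u' = 0 := Subtype.ext h0
  have hd : z' * star z' = (skM u z v).1.det := by
    have e2 := congrArg (fun M : skewPart 2 (1 : F) => M.1.det) e
    simp only [tauU, det_mul, det_conjTranspose] at e2
    rw [det_skM 0 z' v', show A.1.det = 1 from hA] at e2
    simpa using e2.symm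
  have hz' : z' ≠ 0 := fun e3 => h (by rw [← hd, e3, zero_mul])
  exact ⟨z', hz', hd, by rw [← C.muU_tau Ω A, e, C.muU_zero_left Ω hz' v']⟩

theorem exists_reduce_rank_one {X : skewPart 2 (1 : F)} (hX : X ≠ 0) (h : X.1.det = 0) :
    ∃ v : skS F, v.1 ≠ 0 ∧ C.muU Ω X = C.muU Ω (skM 0 0 v) := by
  obtain ⟨u, z, v, rfl⟩ := skM_surj X
  by_cases hu : u.1 = 0
  · obtain rfl : u = 0 := Subtype.ext hu
    have hz : z = 0 := by simpa [det_skM] using h
    subst hz
    refine ⟨v, fun e => hX ?_, rfl⟩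
    obtain rfl : v = 0 := Subtype.ext e
    exact Subtype.ext (by simp [skM, zero2])
  let A : LevA F := ⟨!![-(z / u.1), -1; 1, 0], by simp [det_fin_two], by simp [det_fin_two]⟩
  obtain ⟨u', z', v', e⟩ := skM_surj (tauU A (skM u z v))
  have h0 : u'.1 = 0 := by
    have e1 := tauU_pivot (-(z / u.1)) u z v
    change (tauU A (skM u z v)).1 0 0 = _ at e1
    rw [e] at e1
    change u'.1 = _ at e1
    rw [e1, star_neg, star_div₀, star_skS]
    rw [det_skM] at h
    field_simp
    linear_combination h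
  obtain rfl : u' = 0 := Subtype.ext h0
  have hz : z' = 0 := by
    have e2 := congrArg (fun M : skewPart 2 (1 : F) => M.1.det) e
    simp only [tauU, det_mul, det_conjTranspose] at e2
    rw [det_skM 0 z' v', h] at e2
    have e3 : z' * star z' = 0 := by simpa using e2.symm
    exact (mul_eq_zero.1 e3).elim id star_eq_zero.1
  subst hz
  refine ⟨v', fun hv => hX ?_, by rw [← C.muU_tau Ω A, e]⟩
  obtain rfl : v' = 0 := Subtype.ext hv
  have h' := congrArg Subtype.val e
  simp only [tauU] at h'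
  rw [show (skM (0 : skS F) (0 : F) (0 : skS F)).1 = 0 by simp [skM, zero2]] at h'
  refine Subtype.ext ?_
  have hu' : IsUnit A.1.det := Ne.isUnit A.2.1
  have hu'' : IsUnit (A.1ᴴ).det := by rw [det_conjTranspose]; exact hu'.star
  have := congrArg (fun M => (A.1ᴴ)⁻¹ * M * A.1⁻¹) h'
  simpa [Matrix.mul_assoc, mul_nonsing_inv _ hu', nonsing_inv_mul_cancel_left _ _ hu''] using this

/-- The common multiplicity on matrices of rank one. -/
noncomputable def aU : ℕ := C.muU Ω (skM 0 0 C.exists_beta.choose)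

theorem muU_rank_one {X : skewPart 2 (1 : F)} (hX : X ≠ 0) (h : X.1.det = 0) :
    C.muU Ω X = C.aU Ω := by
  obtain ⟨v, hv, e⟩ := C.exists_reduce_rank_one Ω hX h
  suffices key : ∀ β : skS F, β.1 ≠ 0 → C.muU Ω (skM 0 0 v) = C.muU Ω (skM 0 0 β) by
    rw [e, aU]; exact key _ C.exists_beta.choose_spec
  intro β hβ
  have hr : star (β.1 / v.1) = β.1 / v.1 := by rw [star_div₀, star_skS, star_skS, neg_div_neg_eq]
  obtain ⟨l, hl, hl'⟩ := C.exists_norm hr (div_ne_zero hβ hv)
  have h1 : l⁻¹ * l ≠ 0 := by simp [hl]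
  have h2 : star (l⁻¹ * l) = l⁻¹ * l := by simp [hl]
  rw [← C.muU_tau Ω (levD l⁻¹ l h1 h2) (skM 0 0 v)]
  congr 1
  have e := tauU_diag l⁻¹ l h1 h2 (0 : skS F) 0 v
  refine skM_ext ?_ ?_ ?_ <;> simp [e]
  rw [eq_div_iff hv] at hl'
  refine Eq.trans ?_ hl'
  ring

/-- The multiplicity by determinant. -/
noncomputable def gU (δ : F) : ℕ :=
  letI := Classical.decEq F
  if h : δ ≠ 0 ∧ star δ = δ then C.bU Ω (C.exists_norm h.2 h.1).choose else 0

theorem muU_rank_two {X : skewPart 2 (1 : F)} (h : X.1.det ≠ 0) :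
    C.muU Ω X = C.gU Ω X.1.det := by
  obtain ⟨z, hz, hd, e⟩ := C.exists_reduce_rank_two Ω h
  rw [e, gU, dif_pos ⟨h, det_mem_real X⟩]
  exact C.bU_norm Ω hz (hd.trans (C.exists_norm (det_mem_real X) h).choose_spec.2.symm)

theorem bU_eq_gU {z : F} (hz : z ≠ 0) : C.bU Ω z = C.gU Ω (z * star z) := by
  rw [← C.muU_zero_left Ω hz 0, C.muU_rank_two Ω] <;> simp [det_skM, hz]

/-- The total of the multiplicities by determinant. -/
noncomputable def SU : ℕ :=
  letI := Classical.decEq F
  ∑ δ ∈ ({x : F | star x = x ∧ x ≠ 0} : Finset F), C.gU Ω δ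

/-- The total over the off-diagonal entries. -/
noncomputable def B1 : ℕ :=
  letI := Classical.decEq F
  ∑ z ∈ ({x : F | x ≠ 0} : Finset F), C.bU Ω z

theorem B1_eq : C.B1 Ω = (q + 1) * C.SU Ω := by
  classical
  rw [B1, SU, ← Finset.sum_fiberwise_of_maps_to (g := fun z : F => z * star z)
    (t := ({x : F | star x = x ∧ x ≠ 0} : Finset F)) (fun z hz => by
      simp only [mem_filter, mem_univ, true_and] at hz
      simp [hz, mul_comm]), Finset.mul_sum]
  refine Finset.sum_congr rfl fun δ hδ => ?_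
  simp only [mem_filter, mem_univ, true_and] at hδ
  have e : ({x ∈ ({x : F | x ≠ 0} : Finset F) | x * star x = δ}) = ({x : F | x * star x = δ} : Finset F) := by
    ext x
    simp only [mem_filter, mem_univ, true_and, and_iff_right_iff_imp]
    rintro rfl rfl
    simp at hδ
  rw [e, Finset.sum_congr rfl fun z hz => ?_, Finset.sum_const, C.card_norm_fiber hδ.1 hδ.2,
    smul_eq_mul]
  simp only [mem_filter, mem_univ, true_and] at hz
  have hz0 : z ≠ 0 := by rintro rfl; simp at hz; exact hδ.2 hz.symm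
  rw [C.bU_eq_gU Ω hz0, hz]

theorem sum_upper_entry [Fintype (skS F)] {u : skS F} (hu : u.1 ≠ 0) (z : F) :
    ∑ v : skS F, C.muU Ω (skM u z v) = C.aU Ω + C.SU Ω := by
  classical
  have hr : ∀ v : skS F, (skM u z v).1.det = u.1 * v.1 + z * star z := fun v => det_skM u z v
  have hv0 : -(z * star z) / u.1 ∈ skS F := by
    rw [mem_skS, star_div₀, star_neg, norm_star, star_skS, div_neg]
  rw [← Finset.add_sum_erase univ _ (mem_univ (⟨_, hv0⟩ : skS F))]
  congr 1
  · refine C.muU_rank_one Ω (fun e => hu ?_) ?_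
    · have := congrArg (fun M : skewPart 2 (1 : F) => M.1 0 0) e
      simpa [skM] using this
    · rw [hr, mul_div_cancel₀ _ hu, neg_add_cancel]
  · refine Finset.sum_bij (fun v _ => (skM u z v).1.det) (fun v hv => ?_) (fun v _ v' _ e => ?_)
      (fun δ hδ => ?_) (fun v hv => ?_)
    · simp only [mem_erase, mem_univ, and_true] at hv
      simp only [mem_filter, mem_univ, true_and]
      refine ⟨det_mem_real _, fun e => hv (Subtype.ext ?_)⟩
      rw [hr] at e
      rw [eq_div_iff hu]
      linear_combination e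
    · rw [hr, hr] at e
      exact Subtype.ext (mul_left_cancel₀ hu (add_right_cancel e))
    · simp only [mem_filter, mem_univ, true_and] at hδ
      refine ⟨⟨(δ - z * star z) / u.1, ?_⟩, ?_, ?_⟩
      · rw [mem_skS, star_div₀, star_sub, norm_star, hδ.1, star_skS, div_neg]
      · simp only [mem_erase, mem_univ, and_true, ne_eq, Subtype.ext_iff]
        intro e
        rw [div_left_inj' hu] at e
        exact hδ.2 (by linear_combination e)
      · rw [hr, mul_div_cancel₀ _ hu, sub_add_cancel]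
    · simp only [mem_erase, mem_univ, and_true] at hv
      refine C.muU_rank_two Ω fun e => hv (Subtype.ext ?_)
      rw [hr] at e
      rw [eq_div_iff hu]
      linear_combination e

theorem sum_V [Fintype C.Qs] [Fintype C.Us] [Fintype (skS F)] (y : F) :
    ∑ x : F, C.muQ Ω (x, y) = ∑ v : skS F, C.muU Ω (skM 0 (-star y) v) := by
  classical
  have hq : (q : ℂ) ≠ 0 := by exact_mod_cast (show q ≠ 0 by have := C.q_two; omega)
  have hQ := C.LQ.fix_sum_set (Ω := Ω) (univ : Finset F) (fun x => (x, y))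
  have hU := C.LU.fix_sum_set (Ω := Ω) (univ : Finset (skS F))
    (fun v => skM (0 : skS F) (-star y) v)
  have hlv : C.lv (levE (0 : F)) = 1 := C.D.inj (by
    rw [f_lv, map_one, show (levE (0 : F)).1 = 1 by simp [levE, one2], leviM_one])
  set Sv : ℂ := ∑ c : F, ∑ a : skS F,
    (Nat.card {x : Ω // C.D.upper (skM a c 0) • x = x} : ℂ) * C.e (c * y + star (c * y)) with hSv
  have eQ : ∑ m : C.Qs, (Nat.card {x : Ω // m • x = x} : ℂ) *
      ∑ x : F, C.LQ.P (x, y) (C.LQ.co m) = (q : ℂ) ^ 2 * Sv := by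
    rw [← (Fintype.sum_bijective _ C.qs_bij _ _ fun p => rfl), Fintype.sum_prod_type,
      Fintype.sum_eq_single (0 : F) fun r hr => Finset.sum_eq_zero fun p _ => ?_,
      Fintype.sum_prod_type, hSv, Finset.mul_sum]
    · refine Finset.sum_congr rfl fun c _ => ?_
      rw [Finset.mul_sum]
      refine Finset.sum_congr rfl fun a _ => ?_
      rw [LQ_co]
      show _ * ∑ x : F, C.PQ (x, y) (0, c) = _
      simp only [PQ_apply, zero_mul, star_zero, add_zero, zero_add, Finset.sum_const, card_univ,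
        C.hF, nsmul_eq_mul]
      simp only [Subgroup.smul_def, qs, qe, hlv, mul_one]
      push_cast
      ring
    · rw [LQ_co]
      show _ * ∑ x : F, C.PQ (x, y) (r, p.1) = 0
      simp only [PQ_apply, AddChar.map_add_eq_mul, ← Finset.sum_mul]
      rw [Finset.sum_congr rfl fun x _ => (AddChar.map_add_eq_mul _ _ _).symm, C.sum_e_trace,
        if_neg hr, zero_mul, mul_zero]
  have eU : ∑ m : C.Us, (Nat.card {x : Ω // m • x = x} : ℂ) *
      ∑ v : skS F, C.LU.P (skM 0 (-star y) v) (C.LU.co m) = (q : ℂ) * Sv := by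
    rw [← (Fintype.sum_bijective (fun p : skS F × F × skS F => C.us (skM p.1 p.2.1 p.2.2))
      (C.us_bij.comp skEquiv.symm.bijective) _ _ fun p => rfl), Fintype.sum_prod_type, hSv,
      Finset.mul_sum]
    simp only [Finset.mul_sum (s := (univ : Finset (skS F))) (a := (q : ℂ))]
    rw [Finset.sum_comm (s := (univ : Finset F))]
    refine Finset.sum_congr rfl fun a _ => ?_
    rw [Fintype.sum_prod_type]
    refine Finset.sum_congr rfl fun c _ => ?_
    have e : ∀ b : skS F, ∑ v : skS F, C.LU.P (skM 0 (-star y) v) (C.LU.co (C.us (skM a c b))) =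
        (∑ v : skS F, C.e (b.1 * v.1)) * C.e (c * y + star (c * y)) := fun b => by
      rw [Finset.sum_mul]
      refine Finset.sum_congr rfl fun v _ => ?_
      rw [LU_co]
      show C.PU _ _ = _
      rw [PU_apply, trace_skM, ← AddChar.map_add_eq_mul]
      congr 1
      simp
      ring
    simp only [e, C.sum_e_skS]
    rw [Fintype.sum_eq_single (0 : skS F) fun b hb => by
      rw [if_neg (show b.1 ≠ 0 from fun h => hb (Subtype.ext h)), zero_mul, mul_zero]]
    rw [if_pos (show ((0 : skS F) : F) = 0 from rfl)]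
    simp only [Subgroup.smul_def, us]
    ring
  rw [eQ] at hQ
  rw [eU] at hU
  have cQ' : Nat.card C.Qs = q ^ 5 := by
    rw [← Nat.card_congr (Equiv.ofBijective _ C.qs_bij), Nat.card_prod, Nat.card_prod, C.card_skS,
      Nat.card_eq_fintype_card, C.hF]
    ring
  have cU' : Nat.card C.Us = q ^ 4 := by
    rw [← Nat.card_congr (Equiv.ofBijective _ C.us_bij), Nat.card_congr skEquiv, Nat.card_prod,
      Nat.card_prod, C.card_skS, Nat.card_eq_fintype_card, C.hF]
    ring
  rw [cQ'] at hQ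
  rw [cU'] at hU
  push_cast at hQ hU
  have e1 : ((∑ x : F, C.muQ Ω (x, y) : ℕ) : ℂ) * (q : ℂ) ^ 5 =
      ((∑ v : skS F, C.muU Ω (skM 0 (-star y) v) : ℕ) : ℂ) * (q : ℂ) ^ 5 := by
    simp only [muQ, muU]
    push_cast
    linear_combination -hQ + (q : ℂ) * hU
  exact_mod_cast mul_right_cancel₀ (pow_ne_zero 5 hq) e1

omit [MulAction G Ω] [Finite Ω] in
include C in
theorem exists_t0 : ∃ t : F, t + star t ≠ 0 := by
  classical exact exists_trace_ne_zero C.hF C.hs

/-- The multiplicity at the anisotropic vectors. -/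
noncomputable def eQ' : ℕ := C.muQ Ω (C.exists_t0.choose, 1)

theorem muQ_aniso {w : F × F} (h : tr2 w ≠ 0) : C.muQ Ω w = C.eQ' Ω :=
  (C.invQ_muQ Ω).aniso_congr C h (by
    simpa [tr2] using C.exists_t0.choose_spec)

omit [MulAction G Ω] [Finite Ω] in
include C in
theorem card_iso_fiber [DecidableEq F] {y : F} (hy : y ≠ 0) :
    #{x : F | tr2 (x, y) = 0} = q := by
  classical
  rw [← (card_fixed_skew C.hF C.hs).2]
  have hy' : star y ≠ 0 := star_ne_zero.2 hy
  refine Finset.card_bij (fun x _ => x / y) (fun x hx => ?_)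
    (fun x _ x' _ e => (div_left_inj' hy).1 e) (fun b hb => ⟨b * y, ?_, mul_div_cancel_right₀ _ hy⟩)
  · simp only [mem_filter, mem_univ, true_and, tr2, star_mul', star_star] at hx ⊢
    rw [star_div₀, div_eq_iff hy', neg_mul, div_mul_eq_mul_div, ← neg_div, eq_div_iff hy]
    linear_combination hx
  · simp only [mem_filter, mem_univ, true_and] at hb
    simp [tr2, hb]
    ring

theorem sum_row {y : F} (hy : y ≠ 0) :
    ∑ x : F, C.muQ Ω (x, y) = q * C.cQ Ω y + (q ^ 2 - q) * C.eQ' Ω := by
  classical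
  rw [← Finset.sum_filter_add_sum_filter_not univ (fun x => tr2 (x, y) = 0),
    Finset.sum_congr rfl fun x hx => (show C.muQ Ω (x, y) = C.cQ Ω y from
      (C.invQ_muQ Ω).iso_right (mem_filter.1 hx).2 hy),
    Finset.sum_const, smul_eq_mul, C.card_iso_fiber hy,
    Finset.sum_congr rfl fun x hx => C.muQ_aniso Ω (mem_filter.1 hx).2,
    Finset.sum_const, smul_eq_mul, filter_not, card_sdiff_of_subset (filter_subset _ _),
    C.card_iso_fiber hy, card_univ, C.hF]

theorem row_eq [Fintype C.Qs] [Fintype C.Us] [Fintype (skS F)] {y : F} (hy : y ≠ 0) :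
    C.bU Ω y = C.cQ Ω y + (q - 1) * C.eQ' Ω := by
  have h := C.sum_V Ω y
  have hy' : -star y ≠ 0 := neg_ne_zero.2 (star_ne_zero.2 hy)
  rw [C.sum_row Ω hy, Finset.sum_congr rfl fun v _ => C.muU_zero_left Ω hy' v, Finset.sum_const,
    card_univ, ← Nat.card_eq_fintype_card, C.card_skS, smul_eq_mul,
    C.bU_norm Ω hy' (z := y) (by simp [mul_comm])] at h
  refine Nat.eq_of_mul_eq_mul_left (show 0 < q by have := C.q_two; omega) ?_
  rw [← h, sq, mul_add, ← mul_assoc, Nat.mul_sub_one]

/-- The total over the non-zero second coordinates of iso vectors. -/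
noncomputable def C1 : ℕ :=
  letI := Classical.decEq F
  ∑ y ∈ ({x : F | x ≠ 0} : Finset F), C.cQ Ω y

theorem B1_C1 [Fintype C.Qs] [Fintype C.Us] [Fintype (skS F)] :
    C.B1 Ω = C.C1 Ω + (q ^ 2 - 1) * ((q - 1) * C.eQ' Ω) := by
  classical
  rw [B1, C1, Finset.sum_congr rfl fun y hy => C.row_eq Ω (mem_filter.1 hy).2, sum_add_distrib,
    Finset.sum_const, smul_eq_mul]
  congr 2
  rw [filter_ne' univ 0, card_erase_of_mem (mem_univ _), card_univ, C.hF]

theorem sum_row_zero [Fintype C.Qs] [Fintype C.Us] [Fintype (skS F)] :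
    C.muQ Ω 0 + C.C1 Ω = C.muU Ω 0 + (q - 1) * C.aU Ω := by
  classical
  have h := C.sum_V Ω (0 : F)
  rw [star_zero, neg_zero, ← Finset.add_sum_erase univ _ (mem_univ (0 : F)),
    ← Finset.add_sum_erase univ (fun v => C.muU Ω (skM 0 0 v)) (mem_univ (0 : skS F))] at h
  have h1 : ∑ x ∈ univ.erase (0 : F), C.muQ Ω (x, 0) = C.C1 Ω := by
    obtain ⟨b, hb⟩ := C.exists_beta
    refine Finset.sum_bij (fun x _ => -(b.1 * x)) (fun x hx => ?_)
      (fun x _ x' _ e => mul_left_cancel₀ hb (neg_injective e)) (fun y hy => ?_) (fun x hx => ?_)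
    · simpa [hb] using hx
    · simp only [mem_filter, mem_univ, true_and] at hy
      exact ⟨-y / b.1, by simp [hb, hy], by field_simp⟩
    · exact (C.invQ_muQ Ω).iso_left (mem_erase.1 hx).1 b hb
  have h2 : ∀ v ∈ univ.erase (0 : skS F), C.muU Ω (skM 0 0 v) = C.aU Ω := fun v hv => by
    refine C.muU_rank_one Ω (fun e => (mem_erase.1 hv).1 (Subtype.ext ?_)) (by simp [det_skM])
    simpa [skM] using congrArg (fun M : skewPart 2 (1 : F) => M.1 1 1) e
  rw [h1, Finset.sum_congr rfl h2, Finset.sum_const, card_erase_of_mem (mem_univ _), card_univ,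
    ← Nat.card_eq_fintype_card, C.card_skS, smul_eq_mul] at h
  rw [show (skM (0 : skS F) 0 (0 : skS F)) = 0 from Subtype.ext (by simp [skM, zero2])] at h
  exact h

theorem sum_muQ [Fintype C.Qs] [Fintype C.Us] [Fintype (skS F)] :
    ∑ w : F × F, C.muQ Ω w = C.muU Ω 0 + (q - 1) * C.aU Ω + q * C.B1 Ω := by
  classical
  rw [Fintype.sum_prod_type, Finset.sum_comm, ← Finset.add_sum_erase univ _ (mem_univ (0 : F))]
  congr 1
  · rw [C.sum_V Ω, star_zero, neg_zero, ← Finset.add_sum_erase univ _ (mem_univ (0 : skS F)),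
      Finset.sum_congr rfl fun v hv => C.muU_rank_one Ω
        (fun e => (mem_erase.1 hv).1 (Subtype.ext (by
          simpa [skM] using congrArg (fun M : skewPart 2 (1 : F) => M.1 1 1) e)))
        (by simp [det_skM]),
      Finset.sum_const, card_erase_of_mem (mem_univ _), card_univ, ← Nat.card_eq_fintype_card,
      C.card_skS, smul_eq_mul]
    congr 2
    exact Subtype.ext (by simp [skM, zero2])
  · rw [B1, Finset.mul_sum, filter_ne']
    refine Finset.sum_congr rfl fun y hy => ?_
    have hy0 := (mem_erase.1 hy).1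
    have hy' : -star y ≠ 0 := neg_ne_zero.2 (star_ne_zero.2 hy0)
    rw [C.sum_V Ω, Finset.sum_congr rfl fun v _ => C.muU_zero_left Ω hy' v, Finset.sum_const,
      card_univ, ← Nat.card_eq_fintype_card, C.card_skS, smul_eq_mul,
      C.bU_norm Ω hy' (z := y) (by simp [mul_comm])]

theorem card_omega_eq [Fintype C.Qs] [Fintype C.Us] [Fintype (skS F)] :
    Nat.card Ω = ∑ w : F × F, C.muQ Ω w + (q - 1) * q ^ 2 * (C.aU Ω + C.SU Ω) := by
  classical
  have : Fintype (skewPart 2 (1 : F)) := Fintype.ofEquiv _ skEquiv.symm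
  have : Fintype Ω := Fintype.ofFinite Ω
  have : Fintype (Layer.Orb C.Us Ω) := Fintype.ofFinite _
  have hd : Nat.card Ω = ∑ X : skewPart 2 (1 : F), C.muU Ω X := by
    simp only [muU]
    rw [C.LU.sum_mult, Nat.card_congr (MulAction.selfEquivSigmaOrbits C.Us Ω), Nat.card_sigma]
    refine Finset.sum_congr rfl fun o _ => ?_
    induction o using Quotient.inductionOn with
    | h x =>
      have hker : C.LU.φ.ker = ⊥ := by
        rw [eq_bot_iff]
        intro m hm
        obtain ⟨H, rfl⟩ := C.us_bij.2 m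
        rw [← C.LU.co_eq_zero, LU_co] at hm
        subst hm
        exact Subgroup.mem_bot.2 (Subtype.ext C.D.radical.map_zero_eq_one)
      have h1 : ∀ y : Ω, Nat.card (MulAction.orbit C.LU.φ.ker y) = 1 := fun y => by
        rw [Nat.card_eq_one_iff_unique]
        refine ⟨⟨?_⟩, ⟨⟨y, MulAction.mem_orbit_self y⟩⟩⟩
        rintro ⟨_, m, rfl⟩ ⟨_, n, rfl⟩
        have hm : m = 1 := Subtype.ext (Subgroup.mem_bot.1 (hker.le m.2))
        have hn : n = 1 := Subtype.ext (Subgroup.mem_bot.1 (hker.le n.2))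
        subst hm hn
        rfl
      rw [C.LU.card_orbit, h1, one_mul]
      show Nat.card (C.LU.ann (Quotient.out _)) = Nat.card (C.LU.ann x)
      obtain ⟨n, hn⟩ := Quotient.mk_out (s := MulAction.orbitRel C.Us Ω) x
      rw [← hn, C.LU.ann_smul]
  rw [hd, C.sum_muQ Ω, ← (Fintype.sum_bijective _ skEquiv.symm.bijective _ _ fun p => rfl),
    Fintype.sum_prod_type, ← Finset.add_sum_erase univ _ (mem_univ (0 : skS F))]
  congr 1
  · rw [← C.sum_muQ Ω, Fintype.sum_prod_type, Fintype.sum_prod_type, Finset.sum_comm (s := univ)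
      (t := univ) (f := fun x y => C.muQ Ω (x, y))]
    refine Fintype.sum_bijective (fun z : F => -star z)
      (Function.bijective_iff_has_inverse.2 ⟨fun z => -star z, fun z => by simp, fun z => by simp⟩)
      _ _ fun z => ?_
    rw [C.sum_V Ω]
    simp only [star_neg, star_star, neg_neg]
    rfl
  · rw [Finset.sum_congr rfl fun u hu => ?_, Finset.sum_const, card_erase_of_mem (mem_univ _),
      card_univ, ← Nat.card_eq_fintype_card, C.card_skS, smul_eq_mul, mul_assoc]
    rw [Fintype.sum_prod_type, Finset.sum_congr rfl fun z _ => (show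
        ∑ v, C.muU Ω (skEquiv.symm (u, z, v)) = C.aU Ω + C.SU Ω from C.sum_upper_entry Ω
      (fun e => (mem_erase.1 hu).1 (Subtype.ext e)) z), Finset.sum_const, card_univ, C.hF, smul_eq_mul]

end Data

end CfsgLib.MinIndexPSU4
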