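import Cfsg.Agent.Lib.MinIndexPSU4.Model

/-!
Facts on the field with `q²` elements used for the orbit computations, and the functions on the
two duals which are invariant under the normalising elements.
-/

set_option autoImplicit false
set_option linter.unusedSectionVars false

namespace CfsgLib.MinIndexPSU4

open Matrix CfsgLib.MinDeg Finset

variable {F : Type*} [Field F] [StarRing F] [Fintype F] {q : ℕ} {G : Type*} [Group G]

/-- The trace form on pairs. -/
def tr2 (w : F × F) : F := w.1 * star w.2 + star (w.1 * star w.2)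

theorem star_tr2 (w : F × F) : star (tr2 w) = tr2 w := by
  simp [tr2, add_comm]

namespace Data

variable (C : Data F q G)

include C

theorem exists_norm {δ : F} (hδ : star δ = δ) (h0 : δ ≠ 0) :
    ∃ z : F, z ≠ 0 ∧ z * star z = δ := by
  classical
  obtain ⟨z, hz⟩ := exists_norm_eq C.hF C.hs hδ
  exact ⟨z, fun h => h0 (by rw [← hz, h, zero_mul]), hz⟩

theorem exists_beta : ∃ b : skS F, (b : F) ≠ 0 := by
  classical
  obtain ⟨t, ht, hs⟩ := exists_skew_ne_zero C.hF C.hs
  exact ⟨⟨t, hs⟩, ht⟩

theorem exists_half {k : F} (hk : star k = -k) : ∃ t : F, t - star t = k := by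
  classical
  obtain ⟨r, hr⟩ := exists_trace_ne_zero C.hF C.hs
  refine ⟨k * r / (r + star r), ?_⟩
  have h : star (r + star r) = r + star r := by simp [add_comm]
  rw [star_div₀, h, star_mul', hk]
  field_simp
  ring

theorem exists_phase {w : F} (hw : w * star w = 1) : ∃ β : F, β ≠ 0 ∧ star β = w * β := by
  classical
  have key : ∀ l : F, star (star l + star w * l) = w * (star l + star w * l) := fun l => by
    rw [star_add, star_star, star_mul', star_star]
    linear_combination (-l) * hw
  obtain ⟨t, ht⟩ := exists_star_ne C.hF C.hs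
  by_cases h : (1 : F) + star w = 0
  · refine ⟨_, ?_, key t⟩
    have : star w = -1 := by linear_combination h
    rw [this, neg_one_mul, ← sub_eq_add_neg]
    exact sub_ne_zero.2 ht
  · exact ⟨_, by simpa using h, key 1⟩

omit C in
theorem norm_star (x : F) : star (x * star x) = x * star x := by
  rw [star_mul', star_star, mul_comm]

theorem exists_phase_of_norm_eq {y z : F} (hy : y ≠ 0) (h : y * star y = z * star z) :
    ∃ β : F, β ≠ 0 ∧ z = star β / β * y := by
  have hy' : star y ≠ 0 := star_ne_zero.2 hy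
  obtain ⟨β, h0, hβ⟩ := C.exists_phase (w := z / y) (by rw [star_div₀]; field_simp; rw [h])
  exact ⟨β, h0, by rw [hβ]; field_simp⟩

theorem card_norm_fiber [DecidableEq F] {δ : F} (hδ : star δ = δ) (h0 : δ ≠ 0) :
    #{z : F | z * star z = δ} = q + 1 := by
  classical
  have hq := one_lt_of_card C.hF
  set S : Finset F := {x : F | star x = x ∧ x ≠ 0} with hS
  have hle : ∀ x ∈ S, #{z : F | z * star z = x} ≤ q + 1 := fun x _ => by
    simpa [C.hs, ← pow_succ'] using card_filter_pow_const_le (F := F) (n := q + 1) (by omega) x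
  have hcard : #S = q - 1 := by
    have e : S = ({x : F | star x = x} : Finset F).erase 0 := by
      ext x; simp [hS, and_comm]
    rw [e, card_erase_of_mem (by simp), (card_fixed_skew C.hF C.hs).1]
  have htot : ∑ x ∈ S, #{z : F | z * star z = x} = ∑ x ∈ S, (q + 1) := by
    rw [Finset.sum_const, hcard, smul_eq_mul, ← sq_sub_one, ← C.hF, ← card_univ,
      ← card_erase_of_mem (mem_univ (0 : F)),
      card_eq_sum_card_fiberwise (f := fun z : F => z * star z) (t := S)
        (fun z hz => by
          simp only [coe_erase, Set.mem_sdiff, Set.mem_singleton_iff] at hz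
          simp [hS, hz.2, mul_comm])]
    refine Finset.sum_congr rfl fun x hx => ?_
    congr 1
    ext z
    simp only [hS, mem_filter, mem_univ, true_and] at hx
    simp only [mem_filter, mem_univ, true_and, mem_erase, and_true]
    exact ⟨fun h => ⟨fun hz => hx.2 (by rw [← h, hz, zero_mul]), h⟩, fun h => h.2⟩
  exact (Finset.sum_eq_sum_iff_of_le hle).1 htot δ (by simp [hS, hδ, h0])

theorem card_real_ne_zero [DecidableEq F] : #{x : F | star x = x ∧ x ≠ 0} = q - 1 := by
  classical
  have e : ({x : F | star x = x ∧ x ≠ 0} : Finset F) = ({x : F | star x = x} : Finset F).erase 0 := by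
    ext x; simp [and_comm]
  rw [e, card_erase_of_mem (by simp), (card_fixed_skew C.hF C.hs).1]

theorem sum_e_skS [Fintype (skS F)] [DecidableEq F] (b : skS F) :
    ∑ v : skS F, C.e (b.1 * v.1) = if b.1 = 0 then (q : ℂ) else 0 := by
  classical
  split_ifs with hb
  · simp [hb, ← Nat.card_eq_fintype_card, C.card_skS]
  let ψ : AddChar (skS F) ℂ :=
    { toFun := fun v => C.e (b.1 * v.1)
      map_zero_eq_one' := by simp
      map_add_eq_mul' := fun v w => by simp [mul_add, AddChar.map_add_eq_mul] }
  have hψ : ψ ≠ 0 := by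
    intro h
    obtain ⟨r, hr⟩ := C.he
    have hm : (r + star r) / b.1 ∈ skS F := by
      rw [mem_skS, star_div₀, star_skS, star_add, star_star, add_comm, div_neg]
    have := DFunLike.congr_fun h ⟨_, hm⟩
    exact hr (by simpa [ψ, mul_div_cancel₀ _ hb] using this)
  exact AddChar.sum_eq_zero_iff_ne_zero.2 hψ

theorem sum_e_trace [DecidableEq F] (r : F) :
    ∑ x : F, C.e (r * x + star (r * x)) = if r = 0 then ((q : ℂ) ^ 2) else 0 := by
  classical
  split_ifs with hr
  · simp [hr, C.hF]
  let ψ : AddChar F ℂ :=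
    { toFun := fun x => C.e (r * x + star (r * x))
      map_zero_eq_one' := by simp
      map_add_eq_mul' := fun v w => by
        rw [← AddChar.map_add_eq_mul]
        congr 1
        rw [mul_add, star_add]
        ring }
  have hψ : ψ ≠ 0 := by
    intro h
    refine hr (C.e_trace_eq fun x => ?_)
    have := DFunLike.congr_fun h x
    simpa [ψ, mul_comm] using this
  exact AddChar.sum_eq_zero_iff_ne_zero.2 hψ

end Data

/-- Invariance of a function on the dual of the radical of the point stabiliser. -/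
structure InvQ {β : Type*} (f : F × F → β) : Prop where
  s1 : ∀ (b : skS F) (w : F × F), f (w.1 - b.1 * w.2, w.2) = f w
  s2 : ∀ (b : skS F) (w : F × F), f (w.1, w.2 - b.1 * w.1) = f w
  sD : ∀ (α β : F), α * β ≠ 0 → star (α * β) = α * β → ∀ w : F × F,
    f (α / β * w.1, α * star β * w.2) = f w

namespace InvQ

variable {γ : Type*} {f : F × F → γ} (hf : InvQ f)

include hf

theorem iso_right {w : F × F} (h : tr2 w = 0) (hy : w.2 ≠ 0) : f w = f (0, w.2) := by
  have hy' : star w.2 ≠ 0 := star_ne_zero.2 hy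
  have hm : w.1 / w.2 ∈ skS F := by
    rw [mem_skS, star_div₀, div_eq_iff hy', neg_mul, div_mul_eq_mul_div, ← neg_div,
      eq_div_iff hy]
    rw [tr2, star_mul', star_star] at h
    linear_combination h
  have := hf.s1 ⟨_, hm⟩ w
  rwa [div_mul_cancel₀ _ hy, sub_self, eq_comm] at this

theorem iso_left {x : F} (hx : x ≠ 0) (b : skS F) (hb : b.1 ≠ 0) :
    f (x, 0) = f (0, -(b.1 * x)) := by
  rw [← hf.s2 b (x, 0)]
  simp only [zero_sub]
  refine hf.iso_right ?_ (by simp [hb, hx])
  simp [tr2, star_skS]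
  ring

theorem norm_congr (C : Data F q G) {y z : F} (hy : y ≠ 0) (h : y * star y = z * star z) :
    f (0, y) = f (0, z) := by
  obtain ⟨β, h0, rfl⟩ := C.exists_phase_of_norm_eq hy h
  have := hf.sD β⁻¹ β (by simp [h0]) (by simp [h0]) (0, y)
  rwa [mul_zero, eq_comm, ← div_eq_inv_mul] at this

theorem real_smul {s : F} (hs : star s = s) (h0 : s ≠ 0) (y : F) : f (0, s * y) = f (0, y) := by
  have := hf.sD s 1 (by simpa using h0) (by simpa using hs) (0, y)
  simpa using this

theorem aniso_shift (b : skS F) (w : F × F) :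
    tr2 (w.1 - b.1 * w.2, w.2) = tr2 w ∧ tr2 (w.1, w.2 - b.1 * w.1) = tr2 w := by
  simp only [tr2]
  constructor <;>
    · simp [star_skS]
      ring

theorem aniso_one (C : Data F q G) {w : F × F} (h : tr2 w ≠ 0) :
    ∃ x : F, tr2 (x, 1) = tr2 w ∧ f (x, 1) = f w := by
  -- first make the second coordinate non-real
  suffices key : ∀ w : F × F, tr2 w ≠ 0 → star w.2 ≠ w.2 →
      ∃ x : F, tr2 (x, 1) = tr2 w ∧ f (x, 1) = f w by
    by_cases hy : star w.2 = w.2
    swap
    · exact key w h hy
    by_cases hall : ∀ b : skS F, star (b.1 * w.1) = b.1 * w.1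
    · exfalso
      obtain ⟨b, hb⟩ := C.exists_beta
      have h3 := hall b
      rw [star_mul', star_skS] at h3
      have h4 : star w.1 = -w.1 := by
        refine mul_left_cancel₀ hb ?_
        linear_combination -h3
      refine h ?_
      rw [tr2, star_mul', star_star, hy, h4]
      ring
    push Not at hall
    obtain ⟨b, hb⟩ := hall
    obtain ⟨x, hx1, hx2⟩ := key (w.1, w.2 - b.1 * w.1)
      (by rw [(hf.aniso_shift b w).2]; exact h)
      (fun e => hb (by rw [star_sub, hy] at e; exact sub_right_injective e))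
    exact ⟨x, hx1.trans (hf.aniso_shift b w).2, hx2.trans (hf.s2 b w)⟩
  intro w h hy
  have hy0 : w.2 ≠ 0 := fun e => hy (by rw [e, star_zero])
  have hy' : star w.2 ≠ 0 := star_ne_zero.2 hy0
  set u := w.1 / w.2 with hu
  set κ := 1 - w.2⁻¹ with hκ
  have hρ : u + star u = tr2 w / (w.2 * star w.2) := by
    rw [hu, tr2, star_div₀, star_mul', star_star]
    field_simp
  have hρ0 : u + star u ≠ 0 := by
    rw [hρ]; exact div_ne_zero h (mul_ne_zero hy0 hy')
  have hκ0 : κ - star κ ≠ 0 := fun e => hy (by
    rw [hκ, star_sub, star_one, star_inv₀] at e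
    exact inv_injective (by linear_combination e))
  set b' : F := (κ - star κ) / (u + star u) with hb'
  have hb's : star b' = -b' := by
    rw [hb', star_div₀, star_sub, star_star, star_add, star_star, add_comm (star u), ← neg_div,
      neg_sub]
  have hb'0 : b' ≠ 0 := div_ne_zero hκ0 hρ0
  set b : F := u - κ / b' with hb
  have hbs : star b = -b := by
    rw [hb, star_sub, star_div₀ κ b', hb's, div_neg]
    have : κ / b' - star κ / b' = u + star u := by
      rw [← sub_div, hb']
      field_simp
    linear_combination -this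
  refine ⟨w.1 - b * w.2, ?_, ?_⟩
  all_goals
    have e : w.2 - b' * (w.1 - b * w.2) = 1 := by
      rw [show w.1 = u * w.2 by rw [hu, div_mul_cancel₀ _ hy0], ← sub_mul, hb, sub_sub_cancel,
        ← mul_assoc, mul_div_cancel₀ _ hb'0, hκ, sub_mul, one_mul, inv_mul_cancel₀ hy0]
      ring
  · have e1 := (hf.aniso_shift ⟨b', hb's⟩ (w.1 - b * w.2, w.2)).2
    rw [e, (hf.aniso_shift ⟨b, hbs⟩ w).1] at e1
    exact e1
  · have e1 := hf.s2 ⟨b', hb's⟩ (w.1 - b * w.2, w.2)
    rw [e, hf.s1 ⟨b, hbs⟩ w] at e1
    exact e1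

theorem aniso_congr (C : Data F q G) {v w : F × F} (hv : tr2 v ≠ 0) (hw : tr2 w ≠ 0) :
    f v = f w := by
  suffices key : ∀ w : F × F, tr2 w ≠ 0 → ∃ x : F, tr2 (x, 1) = 1 ∧ f (x, 1) = f w by
    obtain ⟨x, hx, ex⟩ := key v hv
    obtain ⟨x', hx', ex'⟩ := key w hw
    have hm : x - x' ∈ skS F := by
      rw [mem_skS, star_sub]
      simp [tr2] at hx hx'
      linear_combination hx - hx'
    have := hf.s1 ⟨_, hm⟩ (x, 1)
    rw [mul_one, sub_sub_cancel] at this
    rw [← ex, ← ex', this]
  intro w hw
  obtain ⟨γ, h0, hγ⟩ := C.exists_norm (star_tr2 w) hw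
  have hw' := hf.sD γ⁻¹ γ (by simp [h0]) (by simp [h0]) w
  have htr : tr2 (γ⁻¹ / γ * w.1, γ⁻¹ * star γ * w.2) = 1 := by
    have h0' : star γ ≠ 0 := star_ne_zero.2 h0
    have hne : tr2 w ≠ 0 := hw
    calc tr2 (γ⁻¹ / γ * w.1, γ⁻¹ * star γ * w.2) = (γ * star γ)⁻¹ * tr2 w := by
          simp only [tr2, star_mul', star_star, star_inv₀, star_div₀]
          field_simp
      _ = 1 := by rw [hγ, inv_mul_cancel₀ hne]
  obtain ⟨x, hx, ex⟩ := hf.aniso_one C (w := _) (by rw [htr]; exact one_ne_zero)
  exact ⟨x, hx.trans htr, ex.trans hw'⟩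

end InvQ

end CfsgLib.MinIndexPSU4
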