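import Cfsg.Agent.Lib.MinIndexPSU4.Points
import Cfsg.Agent.Lib.PSL2Sub.Maximal
import Cfsg.Agent.Lib.Linear.Simple

/-!
No action has all orbits of the point radical moved by the centre: `SL₂(q²)` would fix two orbits
of the Siegel radical.
-/

set_option autoImplicit false
set_option linter.unusedSectionVars false

namespace CfsgLib.MinIndexPSU4

open Matrix CfsgLib.MinDeg Finset

section SL2

variable {K : Type*} [Field K] [Fintype K]

/-- Proper subgroups of `SL₂` map to proper subgroups of `PSL₂`. -/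
theorem map_ne_top (h4 : 4 ≤ Fintype.card K)
    (S : Subgroup (SpecialLinearGroup (Fin 2) K)) (hS : S ≠ ⊤) :
    S.map (QuotientGroup.mk' (Subgroup.center (SpecialLinearGroup (Fin 2) K))) ≠ ⊤ := by
  intro h
  have hsup : S ⊔ Subgroup.center (SpecialLinearGroup (Fin 2) K) = ⊤ := by
    rw [← QuotientGroup.ker_mk' (Subgroup.center (SpecialLinearGroup (Fin 2) K)),
      ← Subgroup.comap_map_eq, h, Subgroup.comap_top]
  have hcond : 3 ≤ Fintype.card (Fin 2) ∨ ∃ a : K, a ≠ 0 ∧ a ^ 2 ≠ 1 :=
    Or.inr (Linear.exists_sq_ne_one_of_four_le_card (by rwa [Nat.card_eq_fintype_card]))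
  have hn : S.Normal := by
    refine ⟨fun s hs g => ?_⟩
    obtain ⟨a, ha, z, hz, rfl⟩ := Subgroup.mem_sup_of_normal_right.1
      (hsup ▸ Subgroup.mem_top g : g ∈ S ⊔ Subgroup.center _)
    have e : z * s * z⁻¹ = s := by
      rw [← Subgroup.mem_center_iff.1 hz s, mul_inv_cancel_right]
    rw [show a * z * s * (a * z)⁻¹ = a * (z * s * z⁻¹) * a⁻¹ by group, e]
    exact S.mul_mem (S.mul_mem ha hs) (S.inv_mem ha)
  rcases Linear.SL_normal_le_center_or_eq_top hcond S with hc | hc
  · rw [sup_eq_right.2 hc] at hsup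
    have : Subsingleton (ProjectiveSpecialLinearGroup (Fin 2) K) := by
      refine ⟨fun a b => ?_⟩
      induction a using QuotientGroup.induction_on with
      | _ x =>
        induction b using QuotientGroup.induction_on with
        | _ y => exact QuotientGroup.eq.2 (hsup ▸ Subgroup.mem_top _)
    have h1 := Linear.card_PSL_mul (n := Fin 2) (F := K)
    rw [Fintype.card_fin, Linear.card_SL_two, Nat.card_unique, mul_one] at h1
    have h2 : Nat.gcd 2 (Fintype.card K - 1) ≤ 2 := Nat.le_of_dvd two_pos (Nat.gcd_dvd_left _ _)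
    have h3 : 4 ≤ Fintype.card K * (Fintype.card K ^ 2 - 1) := by
      calc 4 = 4 * 1 := rfl
        _ ≤ _ := Nat.mul_le_mul h4 (by have := Nat.pow_le_pow_left h4 2; omega)
    omega
  · exact hS hc

/-- The small indices do not occur. -/
theorem index_bound {q : ℕ} (hK : Fintype.card K = q ^ 2) (hq : 2 ≤ q)
    (S : Subgroup (SpecialLinearGroup (Fin 2) K)) (hS : S ≠ ⊤) :
    (q ≠ 3 → q ^ 2 < S.index) ∧ (q = 3 → 6 ≤ S.index) := by
  have h4 : 4 ≤ Fintype.card K := by rw [hK]; exact Nat.pow_le_pow_left hq 2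
  have hm := map_ne_top h4 S hS
  have hs := QuotientGroup.mk'_surjective (Subgroup.center (SpecialLinearGroup (Fin 2) K))
  have hle : (S.map (QuotientGroup.mk' (Subgroup.center (SpecialLinearGroup (Fin 2) K)))).index ≤
      S.index :=
    Nat.le_of_dvd (Nat.pos_of_ne_zero Subgroup.index_ne_zero_of_finite)
      (Subgroup.index_map_dvd _ hs)
  set T := S.map (QuotientGroup.mk' (Subgroup.center (SpecialLinearGroup (Fin 2) K))) with hT
  constructor
  · intro h3
    refine lt_of_lt_of_le ?_ hle
    have hmem : Fintype.card K ∉ ({2, 3, 5, 7, 9, 11} : Finset ℕ) := by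
      rw [hK]
      simp only [Finset.mem_insert, Finset.mem_singleton, not_or]
      refine ⟨?_, ?_, ?_, ?_, ?_, ?_⟩ <;> intro h
      all_goals
        rcases Nat.lt_or_ge q 4 with hl | hl
        · interval_cases q <;> simp_all
        · have : 16 ≤ q ^ 2 := Nat.pow_le_pow_left hl 2
          omega
    have := PSL2Sub.min_index hmem T hm
    rw [hK] at this
    omega
  · rintro rfl
    refine le_trans ?_ hle
    by_contra hlt
    push Not at hlt
    have : IsSimpleGroup (ProjectiveSpecialLinearGroup (Fin 2) K) :=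
      Linear.isSimpleGroup_PSL_fin 2 le_rfl fun _ => by rwa [Nat.card_eq_fintype_card]
    have hker : T.normalCore = ⊥ := T.normalCore_normal.eq_bot_or_eq_top.resolve_right fun h =>
      hm (top_le_iff.1 (h ▸ T.normalCore_le))
    have h1 : Nat.card (ProjectiveSpecialLinearGroup (Fin 2) K) ∣ T.index.factorial := by
      rw [Subgroup.normalCore_eq_ker] at hker
      have hinj := (MonoidHom.ker_eq_bot_iff _).1 hker
      have hd := Subgroup.card_dvd_of_injective _ hinj
      rwa [Nat.card_perm, ← Subgroup.index_eq_card] at hd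
    have h2 := PSL2Sub.gcd_mul_card_PS (F := K)
    rw [hK, show Nat.gcd 2 (3 ^ 2 - 1) = 2 by decide] at h2
    norm_num at h2
    have h3 : T.index.factorial ∣ Nat.factorial 5 := Nat.factorial_dvd_factorial (by omega)
    have h4 := Nat.le_of_dvd (Nat.factorial_pos 5) (h1.trans h3)
    norm_num [Nat.factorial] at h4
    change 2 * Nat.card (ProjectiveSpecialLinearGroup (Fin 2) K) = 720 at h2
    omega

end SL2

variable {F : Type*} [Field F] [StarRing F] [Fintype F] {q : ℕ} {G : Type*} [Group G] [Finite G]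

/-- A congruence by a matrix of determinant one. -/
def cong (A : SpecialLinearGroup (Fin 2) F) (X : skewPart 2 (1 : F)) : skewPart 2 (1 : F) :=
  ⟨A.1 * X.1 * A.1ᴴ, congr_mem A.1 X.2⟩

/-- An invariant subgroup of the skew-Hermitian matrices is trivial or everything. -/
theorem invariant_bot_or_top (C : Data F q G) (I : AddSubgroup (skewPart 2 (1 : F)))
    (hI : ∀ A, ∀ X ∈ I, cong A X ∈ I) : I = ⊥ ∨ I = ⊤ := by
  classical
  by_cases h : I = ⊥
  · exact Or.inl h
  refine Or.inr ?_
  obtain ⟨X, hX, hX0⟩ : ∃ X ∈ I, X ≠ 0 := by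
    by_contra hcon
    push Not at hcon
    exact h ((AddSubgroup.eq_bot_iff_forall _).2 hcon)
  let wA : SpecialLinearGroup (Fin 2) F := ⟨!![0, 1; -1, 0], by simp [det_fin_two]⟩
  let up : F → SpecialLinearGroup (Fin 2) F := fun r => ⟨!![1, r; 0, 1], by simp [det_fin_two]⟩
  let lo : F → SpecialLinearGroup (Fin 2) F := fun r => ⟨!![1, 0; r, 1], by simp [det_fin_two]⟩
  have cw : ∀ (u v : skS F) (z : F), (cong wA (skM u z v)).1 = !![v.1, star z; -z, u.1] := by
    intro u v z
    simp [cong, wA, skM, ct2, Matrix.mul_fin_two, eq2]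
  have cu : ∀ (r : F) (u v : skS F) (z : F), (cong (up r) (skM u z v)).1 =
      !![u.1 + (z * star r - r * star z) + r * star r * v.1, z + r * v.1;
        -star z + star r * v.1, v.1] := by
    intro r u v z
    simp only [cong, up, skM, ct2, Matrix.mul_fin_two, eq2, star_one, star_zero]
    refine ⟨?_, ?_, ?_, ?_⟩ <;> ring
  have cl : ∀ (r : F) (u v : skS F) (z : F), (cong (lo r) (skM u z v)).1 =
      !![u.1, u.1 * star r + z; r * u.1 - star z, r * star r * u.1 + (r * z - star (r * z)) + v.1] := by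
    intro r u v z
    simp only [cong, lo, skM, ct2, Matrix.mul_fin_two, eq2, star_one, star_zero, star_mul']
    refine ⟨?_, ?_, ?_, ?_⟩ <;> ring
  -- an element with non-zero lower corner
  obtain ⟨u, z, v, hv, hmem⟩ : ∃ u z v, v ≠ 0 ∧ skM u z v ∈ I := by
    obtain ⟨u, z, v, rfl⟩ := skM_surj X
    by_cases hv : v = 0
    swap
    · exact ⟨u, z, v, hv, hX⟩
    subst hv
    by_cases hu : u = 0
    swap
    · refine ⟨0, star z, u, hu, ?_⟩
      convert hI wA _ hX using 1
      refine Subtype.ext ?_
      rw [cw]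
      simp [skM]
    subst hu
    have hz : z ≠ 0 := fun e => hX0 (by subst e; exact Subtype.ext (by simp [skM, zero2]))
    obtain ⟨b, hb⟩ := C.exists_beta
    obtain ⟨t, ht⟩ := C.exists_half b.2
    refine ⟨0, z, b, fun e => hb (by rw [e]; rfl), ?_⟩
    convert hI (lo (t / z)) _ hX using 1
    refine Subtype.ext ?_
    rw [cl, div_mul_cancel₀ _ hz, ht]
    simp [skM]
  -- every multiple of the upper corner
  have hE : ∀ k : skS F, skM k 0 0 ∈ I := by
    intro k
    obtain ⟨t0, ht0⟩ := C.exists_t0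
    have hv' : v.1 ≠ 0 := fun e => hv (Subtype.ext e)
    have hτ : star (t0 + star t0) = t0 + star t0 := by simp [add_comm]
    set s := star (k.1 / v.1 * t0 / (t0 + star t0)) with hs
    have hk : (star s + s) * v.1 = k.1 := by
      rw [hs, star_star, star_div₀, star_mul', star_div₀, star_skS, star_skS, neg_div_neg_eq, hτ]
      field_simp
    have hcomb := I.add_mem (I.sub_mem (I.sub_mem (hI (up (1 + s)) _ hmem) (hI (up 1) _ hmem))
      (hI (up s) _ hmem)) hmem
    convert hcomb using 1
    refine Subtype.ext ?_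
    simp only [AddSubgroup.coe_add, AddSubgroupClass.coe_sub, cu, skM_coe, star_add, star_one]
    ext i j
    fin_cases i <;> fin_cases j <;> simp
    · rw [← hk]; ring
    · ring
    · ring
  have hE' : ∀ k : skS F, skM 0 0 k ∈ I := by
    intro k
    convert hI wA _ (hE k) using 1
    refine Subtype.ext ?_
    rw [cw]
    simp [skM]
  refine (AddSubgroup.eq_top_iff' _).2 fun Y => ?_
  obtain ⟨a, c, b, rfl⟩ := skM_surj Y
  obtain ⟨β, hβ⟩ := C.exists_beta
  have h1 := hI (lo (star (c / β.1))) _ (hE β)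
  have e : skM a c b = cong (lo (star (c / β.1))) (skM β 0 0) + skM (a - β) 0
      (b - ⟨star (c / β.1) * star (star (c / β.1)) * β.1, Data.norm_smul_mem _ β⟩) + skM 0 0 0 := by
    refine Subtype.ext ?_
    simp only [AddSubgroup.coe_add, cl, skM_coe]
    ext i j
    fin_cases i <;> fin_cases j <;> simp [mul_div_cancel₀ _ hβ, star_div₀, star_skS] <;> field_simp
  rw [e]
  refine I.add_mem (I.add_mem h1 ?_) (hE 0)
  have e2 : skM (a - β) 0 (b - ⟨star (c / β.1) * star (star (c / β.1)) * β.1, Data.norm_smul_mem _ β⟩) =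
      skM (a - β) 0 0 + skM 0 0 (b - ⟨star (c / β.1) * star (star (c / β.1)) * β.1, Data.norm_smul_mem _ β⟩) := by
    refine Subtype.ext ?_
    simp [skM, add2]
  rw [e2]
  exact I.add_mem (hE _) (hE' _)

namespace Data

variable (C : Data F q G) {Ω : Type*} [MulAction G Ω] [Finite Ω]

/-- `SL₂` as Levi parameters. -/
def slA (A : SpecialLinearGroup (Fin 2) F) : LevA F :=
  ⟨A.1, by rw [A.2]; exact one_ne_zero, by rw [A.2, star_one]⟩

theorem lv_slA_mul (A B : SpecialLinearGroup (Fin 2) F) :
    C.lv (slA (A * B)) = C.lv (slA A) * C.lv (slA B) := by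
  refine C.D.inj ?_
  rw [map_mul, f_lv, f_lv, f_lv, leviM_mul]
  rfl

theorem lv_slA_one : C.lv (slA (1 : SpecialLinearGroup (Fin 2) F)) = 1 := by
  refine C.D.inj ?_
  rw [map_one, f_lv]
  simp [slA, leviM]

variable (Ω) in
/-- The permutations of the orbits of the Siegel radical induced by `SL₂`. -/
noncomputable def orbHom : SpecialLinearGroup (Fin 2) F →* Equiv.Perm (Layer.Orb C.Us Ω) where
  toFun A := (C.symU (slA A)).perm
  map_one' := Equiv.ext fun o => by
    induction o using Quotient.inductionOn with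
    | h x => rw [Sym.perm_mk, lv_slA_one, one_smul]; rfl
  map_mul' A B := Equiv.ext fun o => by
    induction o using Quotient.inductionOn with
    | h x =>
      rw [Sym.perm_mk, lv_slA_mul, mul_smul, Equiv.Perm.mul_apply, Sym.perm_mk, Sym.perm_mk]

theorem annU_card (x : Ω) :
    Nat.card (MulAction.orbit C.Us x) = Nat.card (C.LU.ann x) := by
  rw [C.LU.card_orbit]
  have h1 : Nat.card (MulAction.orbit C.LU.φ.ker x) = 1 := by
    rw [Nat.card_eq_one_iff_unique]
    refine ⟨⟨?_⟩, ⟨⟨x, MulAction.mem_orbit_self x⟩⟩⟩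
    have key : ∀ m : C.LU.φ.ker, m • x = x := fun m => by
      obtain ⟨H, hH⟩ := C.us_bij.2 m.1
      have h0 := C.LU.co_eq_zero.2 m.2
      rw [← hH, LU_co] at h0
      subst h0
      show (m : C.Us) • x = x
      rw [← hH]
      show C.D.upper 0 • x = x
      rw [show C.D.upper 0 = 1 from C.D.radical.map_zero_eq_one, one_smul]
    rintro ⟨_, m, rfl⟩ ⟨_, n, rfl⟩
    exact Subtype.ext ((key m).trans (key n).symm)
  rw [h1, one_mul]

theorem no_free (hd : Nat.card Ω = (q + 1) * q ^ 3) (hall : ∀ x : Ω, C.MovAt x)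
    (hN : C.muU Ω 0 + q = q ^ 2 + 2) : False := by
  classical
  letI : MulAction (SpecialLinearGroup (Fin 2) F) (Layer.Orb C.Us Ω) :=
    MulAction.compHom _ (C.orbHom Ω)
  haveI : Fintype Ω := Fintype.ofFinite Ω
  haveI := Fintype.ofFinite (Layer.Orb C.Us Ω)
  have hq := C.q_two
  let c : Layer.Orb C.Us Ω → ℕ := fun o =>
    Nat.card {y : Ω // (Quotient.mk _ y : Layer.Orb C.Us Ω) = o}
  have hsum : Nat.card Ω = ∑ o : Layer.Orb C.Us Ω, c o := by
    rw [← Nat.card_congr (Equiv.sigmaFiberEquiv (Quotient.mk _ : Ω → Layer.Orb C.Us Ω)),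
      Nat.card_sigma]
  have hcardO : Fintype.card (Layer.Orb C.Us Ω) + q = q ^ 2 + 2 := by
    rw [← Nat.card_eq_fintype_card, ← C.LU.mult_zero]
    exact hN
  -- fixed orbits are regular
  have hfix : ∀ o : Layer.Orb C.Us Ω, (∀ A : SpecialLinearGroup (Fin 2) F, A • o = o) →
      c o = q ^ 4 := by
    intro o ho
    induction o using Quotient.inductionOn with
    | h x =>
      have hinv : ∀ A : SpecialLinearGroup (Fin 2) F, ∀ X ∈ C.LU.img x, cong A X ∈ C.LU.img x := by
        intro A X hX
        obtain ⟨m, hm, rfl⟩ := C.LU.mem_img.1 hX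
        obtain ⟨H, rfl⟩ := C.us_bij.2 m
        rw [LU_co]
        have hA := ho A
        change C.orbHom Ω A (Quotient.mk _ x) = _ at hA
        rw [show C.orbHom Ω A (Quotient.mk _ x) = (C.symU (slA A)).perm (Quotient.mk _ x) from rfl,
          Sym.perm_mk] at hA
        obtain ⟨n, hn⟩ := Quotient.exact hA
        have e : C.LU.img (C.lv (slA A) • x) = C.LU.img x := by
          rw [← hn]
          exact C.LU.img_smul n x
        rw [← e]
        refine ⟨C.us (cong A H), ?_, LU_co C _⟩
        show C.D.upper _ • C.lv (slA A) • x = C.lv (slA A) • x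
        have hconj := C.lv_conj_upper (slA A) H
        rw [mul_inv_eq_iff_eq_mul] at hconj
        rw [← mul_smul, show C.D.upper (cong A H) * C.lv (slA A) = C.lv (slA A) * C.D.upper H from
          hconj.symm, mul_smul]
        exact congrArg _ hm
      rcases invariant_bot_or_top C _ hinv with hI | hI
      · have h1 := C.LU.card_ann_mul x
        rw [hI, AddSubgroup.card_bot, mul_one, Nat.card_congr skEquiv, Nat.card_prod, Nat.card_prod,
          C.card_skS, Nat.card_eq_fintype_card (α := F), C.hF] at h1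
        show Nat.card _ = _
        rw [card_fiber, C.annU_card, h1]
        ring
      · exfalso
        obtain ⟨a, ha⟩ := hall x
        obtain ⟨m, hm, hm'⟩ := C.LU.mem_img.1 (hI ▸ AddSubgroup.mem_top (skM a 0 0) :
          skM a 0 0 ∈ C.LU.img x)
        obtain ⟨H, rfl⟩ := C.us_bij.2 m
        rw [LU_co] at hm'
        subst hm'
        refine ha ?_
        have hlv : C.lv (levE (0 : F)) = 1 := C.D.inj (by
          rw [f_lv, map_one, show (levE (0 : F)).1 = 1 by simp [levE, one2], leviM_one])
        rw [qe, hlv, mul_one]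
        exact hm
  -- at most one fixed orbit
  have huniq : ∀ o o' : Layer.Orb C.Us Ω, (∀ A : SpecialLinearGroup (Fin 2) F, A • o = o) →
      (∀ A : SpecialLinearGroup (Fin 2) F, A • o' = o') → o = o' := by
    intro o o' ho ho'
    by_contra hne
    have h1 : c o + c o' ≤ Nat.card Ω := by
      rw [hsum, ← Finset.sum_pair hne]
      exact Finset.sum_le_sum_of_subset (subset_univ _)
    rw [hfix o ho, hfix o' ho', hd] at h1
    have h2 : 2 * q ^ 4 ≤ (q + 1) * q ^ 3 := by omega
    rw [show 2 * q ^ 4 = 2 * q * q ^ 3 by ring] at h2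
    have := Nat.le_of_mul_le_mul_right h2 (pow_pos (by omega) 3)
    omega
  have horb : ∀ o : Layer.Orb C.Us Ω, ¬ (∀ A : SpecialLinearGroup (Fin 2) F, A • o = o) →
      (q ≠ 3 → q ^ 2 < Nat.card (MulAction.orbit (SpecialLinearGroup (Fin 2) F) o)) ∧
      (q = 3 → 6 ≤ Nat.card (MulAction.orbit (SpecialLinearGroup (Fin 2) F) o)) := by
    intro o ho
    rw [Nat.card_congr (MulAction.orbitEquivQuotientStabilizer _ o), ← Subgroup.index_eq_card]
    refine index_bound C.hF hq _ fun e => ho fun A => ?_
    exact MulAction.mem_stabilizer_iff.1 (e ▸ Subgroup.mem_top A)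
  have hcard2 : 2 ≤ Fintype.card (Layer.Orb C.Us Ω) := by
    have : 2 * q ≤ q ^ 2 := by rw [sq]; exact Nat.mul_le_mul_right q hq
    omega
  obtain ⟨o, ho⟩ : ∃ o : Layer.Orb C.Us Ω, ¬ (∀ A : SpecialLinearGroup (Fin 2) F, A • o = o) := by
    by_contra hcon
    push Not at hcon
    obtain ⟨a, b, hab⟩ := Fintype.one_lt_card_iff.1 (by omega : 1 < Fintype.card (Layer.Orb C.Us Ω))
    exact hab (huniq a b (hcon a) (hcon b))
  have hle : Nat.card (MulAction.orbit (SpecialLinearGroup (Fin 2) F) o) ≤
      Fintype.card (Layer.Orb C.Us Ω) := by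
    rw [← Nat.card_eq_fintype_card]
    exact Finite.card_subtype_le _
  obtain ⟨hbig, hsmall⟩ := horb o ho
  by_cases h3 : q = 3
  swap
  · have := hbig h3
    have : 2 ≤ q := hq
    omega
  subst h3
  have hcard8 : Fintype.card (Layer.Orb C.Us Ω) = 8 := by omega
  have h6 := hsmall rfl
  -- the orbit and its complement
  set O := univ.filter (fun p : Layer.Orb C.Us Ω =>
    p ∈ MulAction.orbit (SpecialLinearGroup (Fin 2) F) o) with hO
  have hOcard : #O = Nat.card (MulAction.orbit (SpecialLinearGroup (Fin 2) F) o) := by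
    rw [hO, Nat.card_eq_fintype_card, ← Fintype.card_subtype]
  have hconst : ∀ p ∈ O, c p = c o := by
    intro p hp
    obtain ⟨A, rfl⟩ := (mem_filter.1 hp).2
    induction o using Quotient.inductionOn with
    | h x =>
      show c ((C.symU (slA A)).perm (Quotient.mk _ x)) = _
      rw [Sym.perm_mk]
      show Nat.card _ = Nat.card _
      rw [card_fiber, card_fiber]
      exact (C.symU (slA A)).card_orbit x
  have hrest : ∀ p ∈ univ \ O, ∀ A : SpecialLinearGroup (Fin 2) F, A • p = p := by
    intro p hp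
    by_contra hpf
    have h6' := (horb p hpf).2 rfl
    have hdisj : Disjoint O (univ.filter fun r : Layer.Orb C.Us Ω =>
        r ∈ MulAction.orbit (SpecialLinearGroup (Fin 2) F) p) := by
      rw [disjoint_left]
      intro r hr hr'
      refine (mem_sdiff.1 hp).2 (mem_filter.2 ⟨mem_univ _, ?_⟩)
      rw [← MulAction.orbit_eq_iff, ← MulAction.orbit_eq_iff.2 (mem_filter.1 hr).2,
        MulAction.orbit_eq_iff.2 (mem_filter.1 hr').2]
    have h7 := Finset.card_union_of_disjoint hdisj
    have h8 := Finset.card_le_univ (O ∪ univ.filter fun r : Layer.Orb C.Us Ω =>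
        r ∈ MulAction.orbit (SpecialLinearGroup (Fin 2) F) p)
    rw [h7, hOcard, ← Fintype.card_subtype, ← Nat.card_eq_fintype_card, hcard8] at h8
    have : 6 + 6 ≤ 8 := le_trans (Nat.add_le_add h6 h6') h8
    omega
  have hk : #(univ \ O) ≤ 1 := Finset.card_le_one.2 fun a ha b hb => huniq a b (hrest a ha) (hrest b hb)
  rw [card_sdiff_of_subset (subset_univ _), card_univ, hcard8] at hk
  have hsum' : Nat.card Ω = #O * c o + (8 - #O) * 81 := by
    rw [hsum, ← Finset.sum_sdiff (subset_univ O), Finset.sum_congr rfl hconst,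
      Finset.sum_congr rfl fun p hp => hfix p (hrest p hp), Finset.sum_const, Finset.sum_const,
      card_sdiff_of_subset (subset_univ _), card_univ, hcard8, smul_eq_mul, smul_eq_mul, add_comm]
    norm_num
  rw [hd] at hsum'
  have hOle : #O ≤ 8 := hcard8 ▸ card_le_univ _
  rcases (show #O = 7 ∨ #O = 8 by omega) with h | h <;> rw [h] at hsum' <;> omega

end Data

end CfsgLib.MinIndexPSU4
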