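import Cfsg.Agent.Lib.MinDeg.UnitaryOdd
import Cfsg.Agent.Lib.MinIndexPSU4.Abstract

/-!
`SU₄(q)` on a hyperbolic basis: the Siegel radical and the radical of a point stabiliser as
layers, and the elements normalising them.
-/

set_option autoImplicit false
set_option linter.unusedSectionVars false

namespace CfsgLib.MinIndexPSU4

open Matrix CfsgLib.MinDeg

variable {F : Type*} [Field F] [StarRing F]

/-- The skew scalars. -/
def skS (F : Type*) [Field F] [StarRing F] : AddSubgroup F where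
  carrier := {x | star x = -x}
  add_mem' {a b} ha hb := by
    simp only [Set.mem_ofPred_eq] at ha hb ⊢
    rw [star_add, ha, hb, neg_add]
  zero_mem' := by simp
  neg_mem' {a} ha := by
    simp only [Set.mem_ofPred_eq] at ha ⊢
    rw [star_neg, ha]

theorem mem_skS {x : F} : x ∈ skS F ↔ star x = -x := Iff.rfl

theorem star_skS (a : skS F) : star a.1 = -a.1 := a.2

/-- The skew-Hermitian matrix with entries `a`, `c`, `b`. -/
def skM (a : skS F) (c : F) (b : skS F) : skewPart 2 (1 : F) :=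
  ⟨!![a.1, c; -star c, b.1], by
    rw [mem_skewPart]
    ext i j
    fin_cases i <;> fin_cases j <;> simp [star_skS]⟩

theorem skM_coe (a : skS F) (c : F) (b : skS F) :
    (skM a c b).1 = !![a.1, c; -star c, b.1] := rfl

theorem skew_entries (X : skewPart 2 (1 : F)) :
    X.1 0 0 ∈ skS F ∧ X.1 1 1 ∈ skS F ∧ X.1 1 0 = -star (X.1 0 1) := by
  have h := mem_skewPart.1 X.2
  have e : ∀ i j, star (X.1 j i) = -(X.1 i j) := fun i j => by
    simpa using congrArg (fun M : Matrix (Fin 2) (Fin 2) F => M i j) h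
  exact ⟨e 0 0, e 1 1, by rw [e 1 0, neg_neg]⟩

/-- Skew-Hermitian matrices by their entries. -/
def skEquiv : skewPart 2 (1 : F) ≃ skS F × F × skS F where
  toFun X := (⟨X.1 0 0, (skew_entries X).1⟩, X.1 0 1, ⟨X.1 1 1, (skew_entries X).2.1⟩)
  invFun p := skM p.1 p.2.1 p.2.2
  left_inv X := Subtype.ext (by
    ext i j
    fin_cases i <;> fin_cases j <;> simp [skM, (skew_entries X).2.2])
  right_inv p := by ext <;> simp [skM]

theorem skM_surj (X : skewPart 2 (1 : F)) : ∃ a c b, X = skM a c b :=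
  ⟨_, _, _, (skEquiv.symm_apply_apply X).symm⟩

theorem trace_skM (a u : skS F) (c z : F) (b v : skS F) :
    ((skM a c b).1 * (skM u z v).1).trace =
      a.1 * u.1 + b.1 * v.1 - (c * star z + star (c * star z)) := by
  simp [skM, Matrix.trace_fin_two, Matrix.mul_apply, Fin.sum_univ_two]
  ring

theorem det_skM (a : skS F) (c : F) (b : skS F) :
    (skM a c b).1.det = a.1 * b.1 + c * star c := by
  simp [skM, Matrix.det_fin_two]

theorem ct2 (a b c d : F) : (!![a, b; c, d])ᴴ = !![star a, star c; star b, star d] := by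
  ext i j
  fin_cases i <;> fin_cases j <;> rfl

theorem add2 (a b c d a' b' c' d' : F) :
    !![a, b; c, d] + !![a', b'; c', d'] = !![a + a', b + b'; c + c', d + d'] := by
  ext i j
  fin_cases i <;> fin_cases j <;> rfl

theorem eq2 {a b c d a' b' c' d' : F} :
    !![a, b; c, d] = !![a', b'; c', d'] ↔ a = a' ∧ b = b' ∧ c = c' ∧ d = d' := by
  refine ⟨fun h => ⟨?_, ?_, ?_, ?_⟩, by rintro ⟨rfl, rfl, rfl, rfl⟩; rfl⟩
  · exact congrArg (fun M : Matrix (Fin 2) (Fin 2) F => M 0 0) h
  · exact congrArg (fun M : Matrix (Fin 2) (Fin 2) F => M 0 1) h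
  · exact congrArg (fun M : Matrix (Fin 2) (Fin 2) F => M 1 0) h
  · exact congrArg (fun M : Matrix (Fin 2) (Fin 2) F => M 1 1) h

theorem one2 : (1 : Matrix (Fin 2) (Fin 2) F) = !![1, 0; 0, 1] := Matrix.one_fin_two

theorem zero2 : (!![0, 0; 0, 0] : Matrix (Fin 2) (Fin 2) F) = 0 := by
  ext i j
  fin_cases i <;> fin_cases j <;> rfl

/-- Levi parameters. -/
abbrev LevA (F : Type*) [Field F] [StarRing F] :=
  {A : Matrix (Fin 2) (Fin 2) F // A.det ≠ 0 ∧ star A.det = A.det}

/-- The unipotent Levi parameter. -/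
def levE (r : F) : LevA F := ⟨!![1, r; 0, 1], by simp [det_fin_two], by simp [det_fin_two]⟩

/-- The diagonal Levi parameter. -/
def levD (α β : F) (h0 : α * β ≠ 0) (h : star (α * β) = α * β) : LevA F :=
  ⟨!![α, 0; 0, β], by simpa [det_fin_two] using h0, by simpa [det_fin_two] using h⟩

theorem inv_levE (r : F) : (levE r).1⁻¹ = !![1, -r; 0, 1] :=
  inv_eq_right_inv (by ext i j; fin_cases i <;> fin_cases j <;> simp [levE])

theorem inv_levD {α β : F} (h0 : α * β ≠ 0) (h : star (α * β) = α * β) :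
    (levD α β h0 h).1⁻¹ = !![α⁻¹, 0; 0, β⁻¹] :=
  inv_eq_right_inv (by
    ext i j
    fin_cases i <;> fin_cases j <;> simp [levD, (left_ne_zero_of_mul h0), (right_ne_zero_of_mul h0)])

variable [Fintype F] {q : ℕ} {G : Type*} [Group G]

/-- The data: the field, the group with both Siegel radicals, and a non-degenerate character. -/
structure Data (F : Type*) [Field F] [StarRing F] [Fintype F] (q : ℕ) (G : Type*) [Group G] where
  hF : Fintype.card F = q ^ 2
  hs : ∀ x : F, star x = x ^ q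
  D : SiegelData G F 2 (1 : F)
  e : AddChar F ℂ
  he : ∃ r : F, e (r + star r) ≠ 1
  hPU : ∀ X Y : skewPart 2 (1 : F),
    (∀ H : skewPart 2 (1 : F), e (H.1 * X.1).trace = e (H.1 * Y.1).trace) → X = Y

theorem exists_data (hF : Fintype.card F = q ^ 2) (hs : ∀ x : F, star x = x ^ q)
    (D : SiegelData G F 2 (1 : F)) : Nonempty (Data F q G) := by
  obtain ⟨e, χ, hbij, hχ, hr⟩ := exists_skew_dual (m := 2) hF hs
  exact ⟨⟨hF, hs, D, e, hr, fun X Y h => hbij.1 (DFunLike.ext _ _ fun H => by rw [hχ, hχ, h])⟩⟩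

namespace Data

variable (C : Data F q G)

include C in
theorem q_two : 2 ≤ q := by
  classical exact one_lt_of_card C.hF

include C in
theorem card_skS : Nat.card (skS F) = q := by
  classical
  rw [← (card_fixed_skew C.hF C.hs).2, Nat.card_eq_fintype_card]
  exact Fintype.card_of_subtype _ fun x => by simp [mem_skS]

include C in
theorem exists_levi_elt (A : LevA F) : ∃ g, C.D.f g = leviM A.1 := by
  classical
  obtain ⟨t, ht0, ht⟩ := exists_skew_ne_zero C.hF C.hs
  exact C.D.exists_levi (mul_one 1) le_rfl (by simpa using ht) ht0 A.1 A.2.1 A.2.2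

/-- The Levi element. -/
noncomputable def lv (A : LevA F) : G := (C.exists_levi_elt A).choose

theorem f_lv (A : LevA F) : C.D.f (C.lv A) = leviM A.1 := (C.exists_levi_elt A).choose_spec

/-- The element of the radical of the point stabiliser. -/
noncomputable def qe (r c : F) (a : skS F) : G := C.D.upper (skM a c 0) * C.lv (levE r)

theorem f_qe (r c : F) (a : skS F) :
    C.D.f (C.qe r c a) = fromBlocks !![1, r; 0, 1] !![a.1 - c * star r, c; -star c, 0] 0
      !![1, 0; -star r, 1] := by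
  rw [qe, map_mul, C.D.upper_spec, f_lv, upperU, leviM, inv_levE, fromBlocks_multiply]
  simp only [levE, levD, skM, one2, ct2, Matrix.mul_fin_two, Matrix.mul_zero, Matrix.zero_mul, add_zero, zero_add, add2, fromBlocks_inj, eq2]
  simp [← sub_eq_add_neg]

theorem twist_mem (r c : F) : c * star r - r * star c ∈ skS F := by
  rw [mem_skS, star_sub, star_mul', star_mul', star_star, star_star]; ring

/-- The twisting term of the group law. -/
def tw (r c : F) : skS F := ⟨c * star r - r * star c, twist_mem r c⟩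

set_option maxHeartbeats 800000 in
theorem qe_mul (r c r' c' : F) (a a' : skS F) :
    C.qe r c a * C.qe r' c' a' = C.qe (r + r') (c + c') (a + a' + tw r c') := by
  refine C.D.inj ?_
  rw [map_mul, f_qe, f_qe, f_qe, fromBlocks_multiply]
  simp only [levE, levD, skM, one2, ct2, Matrix.mul_fin_two, Matrix.mul_zero, Matrix.zero_mul, add_zero, zero_add, add2, fromBlocks_inj, eq2]
  refine ⟨?_, ?_, trivial, ?_⟩ <;> simp [tw, star_add, ← zero2, eq2] <;> ring_nf <;> simp

theorem qe_one : C.qe 0 0 0 = 1 := by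
  refine C.D.inj ?_
  rw [f_qe, map_one, ← fromBlocks_one]
  congr 1 <;> ext i j <;> fin_cases i <;> fin_cases j <;> simp

theorem qe_inv (r c : F) (a : skS F) :
    (C.qe r c a)⁻¹ = C.qe (-r) (-c) (-a + tw r c) := by
  refine inv_eq_of_mul_eq_one_right ?_
  rw [qe_mul, add_neg_cancel, add_neg_cancel, ← C.qe_one]
  congr 1
  ext
  simp [tw]

theorem qe_inj {r c r' c' : F} {a a' : skS F} (h : C.qe r c a = C.qe r' c' a') :
    r = r' ∧ c = c' ∧ a = a' := by
  have h' := congrArg C.D.f h
  rw [f_qe, f_qe, fromBlocks_inj] at h'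
  have hr : r = r' := by simpa using congrArg (fun M : Matrix (Fin 2) (Fin 2) F => M 0 1) h'.1
  have hc : c = c' := by simpa using congrArg (fun M : Matrix (Fin 2) (Fin 2) F => M 0 1) h'.2.1
  refine ⟨hr, hc, Subtype.ext ?_⟩
  have := congrArg (fun M : Matrix (Fin 2) (Fin 2) F => M 0 0) h'.2.1
  simpa [hr, hc] using this

/-- The radical of the point stabiliser. -/
noncomputable def Qs : Subgroup G where
  carrier := {g | ∃ r c a, C.qe r c a = g}
  mul_mem' := by
    rintro _ _ ⟨r, c, a, rfl⟩ ⟨r', c', a', rfl⟩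
    exact ⟨_, _, _, (C.qe_mul r c r' c' a a').symm⟩
  one_mem' := ⟨0, 0, 0, C.qe_one⟩
  inv_mem' := by
    rintro _ ⟨r, c, a, rfl⟩
    exact ⟨_, _, _, (C.qe_inv r c a).symm⟩

/-- An element of the radical as an element of the subgroup. -/
noncomputable def qs (p : F × F × skS F) : C.Qs :=
  ⟨C.qe p.1 p.2.1 p.2.2, p.1, p.2.1, p.2.2, rfl⟩

theorem qs_bij : Function.Bijective C.qs := by
  refine ⟨fun p p' h => ?_, fun ⟨g, r, c, a, h⟩ => ⟨(r, c, a), Subtype.ext h⟩⟩
  obtain ⟨h1, h2, h3⟩ := C.qe_inj (Subtype.ext_iff.1 h)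
  exact Prod.ext h1 (Prod.ext h2 h3)

theorem pairQ_add (v w u : F × F) :
    C.e ((u.1 * (v + w).1 + star (u.1 * (v + w).1)) + (u.2 * (v + w).2 + star (u.2 * (v + w).2))) =
      C.e ((u.1 * v.1 + star (u.1 * v.1)) + (u.2 * v.2 + star (u.2 * v.2))) *
      C.e ((u.1 * w.1 + star (u.1 * w.1)) + (u.2 * w.2 + star (u.2 * w.2))) := by
  rw [← AddChar.map_add_eq_mul]
  congr 1
  simp only [Prod.fst_add, Prod.snd_add, mul_add, star_add]
  ring

/-- The pairing on the two coordinates of the radical of the point stabiliser. -/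
noncomputable def PQ (w : F × F) : AddChar (F × F) ℂ where
  toFun v := C.e ((v.1 * w.1 + star (v.1 * w.1)) + (v.2 * w.2 + star (v.2 * w.2)))
  map_zero_eq_one' := by simp
  map_add_eq_mul' v v' := by
    simp only [mul_comm _ w.1, mul_comm _ w.2]
    exact C.pairQ_add v v' w

theorem PQ_apply (w v : F × F) :
    C.PQ w v = C.e ((v.1 * w.1 + star (v.1 * w.1)) + (v.2 * w.2 + star (v.2 * w.2))) := rfl

theorem PQ_symm (w v : F × F) : C.PQ w v = C.PQ v w := by
  simp only [PQ_apply, mul_comm]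

theorem e_trace_eq {x : F} (h : ∀ r : F, C.e (r * x + star (r * x)) = 1) : x = 0 := by
  obtain ⟨r₀, hr₀⟩ := C.he
  by_contra hx
  exact hr₀ (by simpa [div_mul_cancel₀ _ hx] using h (r₀ / x))

theorem PQ_inj : Function.Injective C.PQ := by
  intro w w' h
  have h' : ∀ v, C.PQ (w - w') v = 1 := fun v => by
    have e := C.pairQ_add (w - w') w' v
    rw [sub_add_cancel] at e
    change C.PQ w v = C.PQ (w - w') v * C.PQ w' v at e
    rw [h] at e
    exact (mul_eq_right₀ ((C.PQ w').val_isUnit v).ne_zero).1 e.symm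
  have h1 := C.e_trace_eq (x := (w - w').1) fun r => by simpa [PQ_apply] using h' (r, 0)
  have h2 := C.e_trace_eq (x := (w - w').2) fun r => by simpa [PQ_apply] using h' (0, r)
  exact sub_eq_zero.1 (Prod.ext h1 h2)

/-- The coordinates of an element of the radical of the point stabiliser. -/
def coQ (g : G) : F × F := (C.D.f g (.inl 0) (.inl 1), C.D.f g (.inl 0) (.inr 1))

theorem coQ_qe (r c : F) (a : skS F) : C.coQ (C.qe r c a) = (r, c) := by simp [coQ, f_qe]

/-- The layer of the radical of the point stabiliser. -/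
noncomputable def LQ : Layer C.Qs (F × F) where
  φ :=
    { toFun := fun g => Multiplicative.ofAdd (C.coQ g)
      map_one' := by rw [OneMemClass.coe_one, ← C.qe_one, coQ_qe]; rfl
      map_mul' := by
        rintro ⟨_, r, c, a, rfl⟩ ⟨_, r', c', a', rfl⟩
        rw [Subgroup.coe_mul, qe_mul, coQ_qe, coQ_qe, coQ_qe]; rfl }
  surj w := ⟨C.qs (w.toAdd.1, w.toAdd.2, 0), by simp [qs, coQ_qe]⟩
  P := C.PQ
  hadd v w := DFunLike.ext _ _ fun u => C.pairQ_add v w u
  hinj := C.PQ_inj

theorem LQ_co (p : F × F × skS F) : C.LQ.co (C.qs p) = (p.1, p.2.1) := by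
  simp [Layer.co, LQ, qs, coQ_qe]

/-- The Siegel radical. -/
def Us : Subgroup G where
  carrier := {g | ∃ H, C.D.upper H = g}
  mul_mem' := by
    rintro _ _ ⟨H, rfl⟩ ⟨K, rfl⟩
    exact ⟨H + K, C.D.radical.map_add_eq_mul H K⟩
  one_mem' := ⟨0, C.D.radical.map_zero_eq_one⟩
  inv_mem' := by
    rintro _ ⟨H, rfl⟩
    refine ⟨-H, eq_inv_of_mul_eq_one_left ?_⟩
    show C.D.radical (-H) * C.D.radical H = 1
    rw [← AddChar.map_add_eq_mul, neg_add_cancel, AddChar.map_zero_eq_one]

/-- An element of the Siegel radical as an element of the subgroup. -/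
def us (H : skewPart 2 (1 : F)) : C.Us := ⟨C.D.upper H, H, rfl⟩

theorem upper_block (H : skewPart 2 (1 : F)) : (C.D.f (C.D.upper H)).toBlocks₁₂ = H.1 := by
  rw [C.D.upper_spec, upperU, toBlocks_fromBlocks₁₂]

theorem us_bij : Function.Bijective C.us := by
  refine ⟨fun H K h => Subtype.ext ?_, fun ⟨g, H, h⟩ => ⟨H, Subtype.ext h⟩⟩
  have := congrArg (fun g : C.Us => (C.D.f g.1).toBlocks₁₂) h
  simpa [us, C.D.upper_spec, upperU] using this

theorem coU_mem (g : C.Us) : (C.D.f g.1).toBlocks₁₂ ∈ skewPart 2 (1 : F) := by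
  obtain ⟨H, hH⟩ := g.2
  rw [← hH, C.D.upper_spec, upperU, toBlocks_fromBlocks₁₂]
  exact H.2

/-- The pairing on the Siegel radical. -/
noncomputable def PU (X : skewPart 2 (1 : F)) : AddChar (skewPart 2 (1 : F)) ℂ where
  toFun H := C.e (H.1 * X.1).trace
  map_zero_eq_one' := by simp
  map_add_eq_mul' H K := by simp [Matrix.add_mul, AddChar.map_add_eq_mul]

theorem PU_apply (X H : skewPart 2 (1 : F)) : C.PU X H = C.e (H.1 * X.1).trace := rfl

/-- The layer of the Siegel radical. -/
noncomputable def LU : Layer C.Us (skewPart 2 (1 : F)) where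
  φ :=
    { toFun := fun g => Multiplicative.ofAdd ⟨_, C.coU_mem g⟩
      map_one' := by
        rw [← ofAdd_zero]
        congr 1
        exact Subtype.ext (by simp [← fromBlocks_one])
      map_mul' := by
        rintro ⟨_, H, rfl⟩ ⟨_, K, rfl⟩
        rw [← ofAdd_add]
        congr 1
        exact Subtype.ext (by simp [map_mul, C.D.upper_spec, upperU, fromBlocks_multiply, add_comm]) }
  surj H := ⟨C.us H.toAdd, by simp [us, C.D.upper_spec, upperU]⟩
  P := C.PU
  hadd X Y := DFunLike.ext _ _ fun H => by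
    simp [PU, Matrix.mul_add, AddChar.map_add_eq_mul]
  hinj X Y h := C.hPU X Y fun H => DFunLike.congr_fun h H

theorem LU_co (H : skewPart 2 (1 : F)) : C.LU.co (C.us H) = H := by
  refine Subtype.ext ?_
  simp [Layer.co, LU, us, C.D.upper_spec, upperU]

/-! ### Elements normalising the layers -/

theorem lv_conj_upper (A : LevA F) (H : skewPart 2 (1 : F)) :
    C.lv A * C.D.upper H * (C.lv A)⁻¹ = C.D.upper ⟨A.1 * H.1 * A.1ᴴ, congr_mem A.1 H.2⟩ := by
  rw [mul_inv_eq_iff_eq_mul]
  refine C.D.inj ?_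
  rw [map_mul, map_mul, f_lv, C.D.upper_spec, C.D.upper_spec]
  exact leviM_mul_upperU A.1 H.1 A.2.1

/-- The map induced on the dual of the Siegel radical. -/
def tauU (A : LevA F) (X : skewPart 2 (1 : F)) : skewPart 2 (1 : F) :=
  ⟨A.1ᴴ * X.1 * A.1, by simpa using congr_mem A.1ᴴ X.2⟩

theorem symU (A : LevA F) : Sym C.LU (C.lv A) (tauU A) where
  conj m := by
    obtain ⟨H, rfl⟩ := C.us_bij.2 m
    refine ⟨C.us ⟨A.1 * H.1 * A.1ᴴ, congr_mem A.1 H.2⟩, (C.lv_conj_upper A H).symm, fun X => ?_⟩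
    rw [LU_co, LU_co]
    show C.e (A.1 * H.1 * A.1ᴴ * X.1).trace = C.e (H.1 * (A.1ᴴ * X.1 * A.1)).trace
    congr 1
    rw [Matrix.mul_assoc A.1, Matrix.mul_assoc A.1, trace_mul_comm A.1]
    simp only [Matrix.mul_assoc]

/-- The upper element moving the coordinates of the point radical. -/
def g1 (b : skS F) : G := C.D.upper (skM 0 0 b)

/-- The lower element moving the coordinates of the point radical. -/
def g2 (b : skS F) : G := C.D.lower (skM 0 0 b)

theorem norm_mul_mem (b : skS F) (r : F) : b.1 * (r * star r) ∈ skS F := by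
  rw [mem_skS, star_mul', star_mul', star_star, star_skS]; ring

theorem g1_mul (b : skS F) (r c : F) (a : skS F) :
    C.g1 b * C.qe r c a =
      C.qe r (c - r * b.1) (a - ⟨b.1 * (r * star r), norm_mul_mem b r⟩) * C.g1 b := by
  refine C.D.inj ?_
  rw [map_mul, map_mul, f_qe, f_qe, g1, C.D.upper_spec, upperU, fromBlocks_multiply,
    fromBlocks_multiply]
  simp only [levE, levD, skM, one2, ct2, Matrix.mul_fin_two, Matrix.mul_zero, Matrix.zero_mul, add_zero, zero_add, add2, fromBlocks_inj, eq2]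
  simp [star_skS, ← zero2, eq2]
  ring_nf
  simp

theorem g2_mul (b : skS F) (r c : F) (a : skS F) :
    C.g2 b * C.qe r c a =
      C.qe (r - c * b.1) c (a + ⟨b.1 * (c * star c), norm_mul_mem b c⟩) * C.g2 b := by
  refine C.D.inj ?_
  rw [map_mul, map_mul, f_qe, f_qe, g2, C.D.lower_spec, lowerU, fromBlocks_multiply,
    fromBlocks_multiply]
  simp only [levE, levD, skM, one2, ct2, Matrix.mul_fin_two, Matrix.mul_zero, Matrix.zero_mul, add_zero, zero_add, add2, fromBlocks_inj, eq2]
  simp [star_skS, ← zero2, eq2]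
  ring_nf
  simp

theorem norm_smul_mem (α : F) (a : skS F) : α * star α * a.1 ∈ skS F := by
  rw [mem_skS, star_mul', star_mul', star_star, star_skS]; ring

set_option maxHeartbeats 800000 in
theorem lvD_mul {α β : F} (h0 : α * β ≠ 0) (h : star (α * β) = α * β) (r c : F) (a : skS F) :
    C.lv (levD α β h0 h) * C.qe r c a =
      C.qe (α / β * r) (α * star β * c) ⟨α * star α * a.1, norm_smul_mem α a⟩ *
        C.lv (levD α β h0 h) := by
  refine C.D.inj ?_
  have hα := left_ne_zero_of_mul h0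
  have hβ := right_ne_zero_of_mul h0
  have h' : star α * star β = α * β := by rw [← star_mul']; exact h
  rw [map_mul, map_mul, f_qe, f_qe, f_lv, leviM, inv_levD, fromBlocks_multiply, fromBlocks_multiply]
  simp only [levE, levD, skM, one2, ct2, Matrix.mul_fin_two, Matrix.mul_zero, Matrix.zero_mul, add_zero, zero_add, add2, fromBlocks_inj, eq2]
  simp [← zero2, eq2]
  have hα' : star α ≠ 0 := star_ne_zero.2 hα
  have hβ' : star β ≠ 0 := star_ne_zero.2 hβ
  refine ⟨?_, ?_⟩ <;> (try field_simp) <;> (try ring_nf) <;> (try simp [hα', hβ'])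

theorem symQ_of_mul {g : G} {σ τ : F × F → F × F}
    (hg : ∀ r c a, ∃ a', g * C.qe r c a = C.qe (σ (r, c)).1 (σ (r, c)).2 a' * g)
    (hτ : ∀ w v, C.PQ w (σ v) = C.PQ (τ w) v) : Sym C.LQ g τ where
  conj m := by
    obtain ⟨⟨r, c, a⟩, rfl⟩ := C.qs_bij.2 m
    obtain ⟨a', ha'⟩ := hg r c a
    refine ⟨C.qs ((σ (r, c)).1, (σ (r, c)).2, a'), eq_mul_inv_of_mul_eq ha'.symm, fun w => ?_⟩
    rw [LQ_co, LQ_co]
    exact hτ w (r, c)

theorem symQ1 (b : skS F) : Sym C.LQ (C.g1 b) fun w => (w.1 - b.1 * w.2, w.2) :=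
  C.symQ_of_mul (σ := fun v => (v.1, v.2 - v.1 * b.1))
    (fun r c a => ⟨_, C.g1_mul b r c a⟩) fun w v => by
      simp only [PQ_apply]
      congr 1
      simp [star_skS]
      ring

theorem symQ2 (b : skS F) : Sym C.LQ (C.g2 b) fun w => (w.1, w.2 - b.1 * w.1) :=
  C.symQ_of_mul (σ := fun v => (v.1 - v.2 * b.1, v.2))
    (fun r c a => ⟨_, C.g2_mul b r c a⟩) fun w v => by
      simp only [PQ_apply]
      congr 1
      simp [star_skS]
      ring

theorem symQD {α β : F} (h0 : α * β ≠ 0) (h : star (α * β) = α * β) :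
    Sym C.LQ (C.lv (levD α β h0 h)) fun w => (α / β * w.1, α * star β * w.2) :=
  C.symQ_of_mul (σ := fun v => (α / β * v.1, α * star β * v.2))
    (fun r c a => ⟨_, C.lvD_mul h0 h r c a⟩) fun w v => by
      simp only [PQ_apply]
      congr 1
      ring_nf

end Data

end CfsgLib.MinIndexPSU4
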