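import Cfsg.Agent.Lib.MinIndexPSU4.Count

/-!
The orbits of the point radical which are moved by its centre: their annihilators are singular
planes, invariant under the scalars when the characteristic is odd.
-/

set_option autoImplicit false
set_option linter.unusedSectionVars false

namespace CfsgLib.MinIndexPSU4

open Matrix CfsgLib.MinDeg Finset CfsgLib.MinIndexPSp

variable {F : Type*} [Field F] [StarRing F] [Fintype F] {q : ℕ} {G : Type*} [Group G] [Finite G]

/-- The commutator form. -/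
def om (v w : F × F) : skS F := Data.tw v.1 w.2 - Data.tw w.1 v.2

/-- The swap identifying the plane with its dual. -/
def sw (w : F × F) : F × F := (star w.2, star w.1)

theorem sw_sw (w : F × F) : sw (sw w) = w := by simp [sw]

theorem sw_inj : Function.Injective (sw : F × F → F × F) :=
  Function.LeftInverse.injective sw_sw

theorem tr2_sw (w : F × F) : tr2 (sw w) = tr2 w := by
  simp [tr2, sw]; ring

theorem tr2_add (v w : F × F) :
    tr2 (v + w) = tr2 v + tr2 w +
      ((w.1 * star v.2 + w.2 * star v.1) + star (w.1 * star v.2 + w.2 * star v.1)) := by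
  simp [tr2]; ring

namespace Data

variable (C : Data F q G)

theorem PQ_sw {v w : F × F} (h : tr2 (v + w) = 0) (hv : tr2 v = 0) (hw : tr2 w = 0) :
    C.PQ (sw v) w = 1 := by
  rw [tr2_add, hv, hw, zero_add, zero_add] at h
  rw [PQ_apply, show ((w.1 * (sw v).1 + star (w.1 * (sw v).1)) + (w.2 * (sw v).2 + star (w.2 * (sw v).2))) = 0 by
    rw [← h]; simp [sw, star_add]; ring]
  exact AddChar.map_zero_eq_one _

/-- A singular subgroup is carried into its annihilator. -/
theorem sw_mem_dualAnn (S : AddSubgroup (F × F)) (hS : ∀ w ∈ S, tr2 w = 0) {v : F × F}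
    (hv : v ∈ S) : sw v ∈ dualAnn C.LQ.P C.LQ.hadd S :=
  fun w hw => C.PQ_sw (hS _ (add_mem hv hw)) (hS _ hv) (hS _ hw)

include C in
theorem card_W : Nat.card (F × F) = q ^ 2 * q ^ 2 := by
  rw [Nat.card_prod, Nat.card_eq_fintype_card, C.hF]

include C in
theorem card_singular_le (S : AddSubgroup (F × F)) (hS : ∀ w ∈ S, tr2 w = 0) :
    Nat.card S ≤ q ^ 2 := by
  have h1 : Nat.card S ≤ Nat.card (dualAnn C.LQ.P C.LQ.hadd S) :=
    Nat.card_le_card_of_injective (fun v => ⟨sw v.1, C.sw_mem_dualAnn S hS v.2⟩) fun a b e =>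
      Subtype.ext (sw_inj (Subtype.ext_iff.1 e))
  rw [card_dualAnn C.LQ.P C.LQ.hadd C.LQ.hinj] at h1
  have h2 := (AddSubgroup.card_eq_card_quotient_mul_card_addSubgroup S).symm
  rw [C.card_W] at h2
  exact Nat.mul_self_le_mul_self_iff.1 ((Nat.mul_le_mul_right _ h1).trans h2.le)

variable {Ω : Type*} [MulAction G Ω] [Finite Ω]

/-- The centre moves the orbit. -/
def MovAt (x : Ω) : Prop := ∃ a : skS F, C.qe 0 0 a • x ≠ x

theorem qe_zero_comm (r c : F) (a z : skS F) :
    C.qe r c a * C.qe 0 0 z = C.qe 0 0 z * C.qe r c a := by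
  rw [qe_mul, qe_mul]
  congr 1 <;> first | (simp; done) | (ext; simp [tw]; ring)

theorem movAt_smul (m : C.Qs) (x : Ω) : C.MovAt (m • x) ↔ C.MovAt x := by
  obtain ⟨⟨r, c, a⟩, rfl⟩ := C.qs_bij.2 m
  refine exists_congr fun z => not_congr ?_
  show C.qe 0 0 z • C.qe r c a • x = C.qe r c a • x ↔ _
  rw [← mul_smul, ← qe_zero_comm, mul_smul, smul_left_cancel_iff]

/-- The orbit is moved by the centre. -/
def Mov : Layer.Orb C.Qs Ω → Prop :=
  Quotient.lift C.MovAt fun a b h => by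
    obtain ⟨n, rfl⟩ := h
    exact propext (C.movAt_smul n b)

@[simp] theorem Mov_mk (x : Ω) : C.Mov (Quotient.mk _ x) ↔ C.MovAt x := Iff.rfl

theorem mem_ker {m : C.Qs} : m ∈ C.LQ.φ.ker ↔ ∃ a : skS F, m = C.qs (0, 0, a) := by
  obtain ⟨⟨r, c, a⟩, rfl⟩ := C.qs_bij.2 m
  rw [← C.LQ.co_eq_zero, LQ_co, Prod.mk_eq_zero]
  constructor
  · rintro ⟨hr, hc⟩
    simp only at hr hc
    subst hr hc
    exact ⟨a, rfl⟩
  · rintro ⟨b, hb⟩
    have := C.qs_bij.1 hb
    simp only [Prod.mk.injEq] at this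
    exact ⟨this.1, this.2.1⟩

theorem card_ker : Nat.card C.LQ.φ.ker = q := by
  refine Eq.trans ?_ C.card_skS
  refine (Nat.card_congr (Equiv.ofBijective
    (fun a : skS F => (⟨C.qs (0, 0, a), C.mem_ker.2 ⟨a, rfl⟩⟩ : C.LQ.φ.ker)) ⟨fun a b e => ?_, ?_⟩)).symm
  · exact (Prod.mk.injEq _ _ _ _ ▸ ((Prod.mk.injEq _ _ _ _ ▸ C.qs_bij.1 (Subtype.ext_iff.1 e)).2)).2
  · rintro ⟨m, hm⟩
    obtain ⟨a, rfl⟩ := C.mem_ker.1 hm
    exact ⟨a, rfl⟩

theorem card_kerOrbit_dvd (x : Ω) : Nat.card (MulAction.orbit C.LQ.φ.ker x) ∣ q := by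
  refine ⟨Nat.card (MulAction.stabilizer C.LQ.φ.ker x), ?_⟩
  rw [← Nat.card_prod, Nat.card_congr (MulAction.orbitProdStabilizerEquivGroup _ x), C.card_ker]

theorem kerOrbit_one {x : Ω} (h : ¬ C.MovAt x) :
    Nat.card (MulAction.orbit C.LQ.φ.ker x) = 1 := by
  rw [Nat.card_eq_one_iff_unique]
  refine ⟨⟨?_⟩, ⟨⟨x, MulAction.mem_orbit_self x⟩⟩⟩
  have key : ∀ m : C.LQ.φ.ker, m • x = x := fun m => by
    obtain ⟨a, ha⟩ := C.mem_ker.1 m.2
    show (m : C.Qs) • x = x
    rw [ha]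
    by_contra hne
    exact h ⟨a, hne⟩
  rintro ⟨_, m, rfl⟩ ⟨_, n, rfl⟩
  exact Subtype.ext ((key m).trans (key n).symm)

theorem kerOrbit_two {x : Ω} (h : C.MovAt x) :
    2 ≤ Nat.card (MulAction.orbit C.LQ.φ.ker x) := by
  obtain ⟨a, ha⟩ := h
  have hm : C.qs (0, 0, a) ∈ C.LQ.φ.ker := C.mem_ker.2 ⟨a, rfl⟩
  have h0 : 0 < Nat.card (MulAction.orbit C.LQ.φ.ker x) :=
    Nat.card_pos_iff.2 ⟨⟨⟨x, MulAction.mem_orbit_self x⟩⟩, inferInstance⟩
  rcases Nat.lt_or_ge (Nat.card (MulAction.orbit C.LQ.φ.ker x)) 2 with h1 | h1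
  · exfalso
    have h1' : Nat.card (MulAction.orbit C.LQ.φ.ker x) = 1 := by omega
    have := (Nat.card_eq_one_iff_unique.1 h1').1
    exact ha (Subtype.ext_iff.1 (Subsingleton.elim
      (⟨C.qe 0 0 a • x, ⟨⟨_, hm⟩, rfl⟩⟩ : MulAction.orbit C.LQ.φ.ker x)
      ⟨x, MulAction.mem_orbit_self x⟩))
  · exact h1

/-- The central elements fixing a point. -/
def K0 (x : Ω) : AddSubgroup (skS F) where
  carrier := {a | C.qe 0 0 a • x = x}
  add_mem' {a b} ha hb := by
    have e : C.qe 0 0 (a + b) = C.qe 0 0 a * C.qe 0 0 b := by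
      rw [qe_mul]; congr 1 <;> first | (simp; done) | (ext; simp [tw])
    show C.qe 0 0 (a + b) • x = x
    rw [e, mul_smul, show C.qe 0 0 b • x = x from hb]
    exact ha
  zero_mem' := by show C.qe 0 0 0 • x = x; rw [qe_one, one_smul]
  neg_mem' {a} ha := by
    have e : C.qe 0 0 (-a) = (C.qe 0 0 a)⁻¹ := by
      rw [qe_inv]; congr 1 <;> first | (simp; done) | (ext; simp [tw])
    show C.qe 0 0 (-a) • x = x
    rw [e, inv_smul_eq_iff]
    exact (show C.qe 0 0 a • x = x from ha).symm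

theorem mem_K0 {x : Ω} {a : skS F} : a ∈ C.K0 x ↔ C.qe 0 0 a • x = x := Iff.rfl

theorem om_mem {x : Ω} {v w : F × F} (hv : v ∈ C.LQ.img x) (hw : w ∈ C.LQ.img x) :
    om v w ∈ C.K0 x := by
  obtain ⟨m, hm, rfl⟩ := hv
  obtain ⟨n, hn, rfl⟩ := hw
  obtain ⟨⟨r, c, a⟩, rfl⟩ := C.qs_bij.2 m
  obtain ⟨⟨r', c', a'⟩, rfl⟩ := C.qs_bij.2 n
  change C.qe r c a • x = x at hm
  change C.qe r' c' a' • x = x at hn
  rw [mem_K0, LQ_co, LQ_co]
  have e : C.qe 0 0 (om (r, c) (r', c')) =
      C.qe r c a * C.qe r' c' a' * (C.qe r' c' a' * C.qe r c a)⁻¹ := by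
    rw [eq_mul_inv_iff_mul_eq, qe_mul, qe_mul, qe_mul]
    congr 1 <;> first | (simp; ring; done) | (ext; simp [tw, om]; ring)
  rw [e, mul_smul, inv_smul_eq_iff.2 (by rw [mul_smul, hm, hn]), mul_smul, hn, hm]

theorem sq_mem {x : Ω} {v : F × F} (hv : v ∈ C.LQ.img x) (h2 : (2 : F) = 0) :
    tr2 v = 0 ∨ ∃ a ∈ C.K0 x, (a : F) ≠ 0 := by
  obtain ⟨m, hm, rfl⟩ := hv
  obtain ⟨⟨r, c, a⟩, rfl⟩ := C.qs_bij.2 m
  change C.qe r c a • x = x at hm
  rw [LQ_co]
  by_cases h : tr2 (r, c) = 0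
  · exact Or.inl h
  refine Or.inr ⟨a + a + tw r c, ?_, ?_⟩
  · have hr : ∀ t : F, t + t = 0 := fun t => by linear_combination t * h2
    have e : C.qe r c a * C.qe r c a = C.qe 0 0 (a + a + tw r c) := by
      rw [qe_mul, hr, hr]
    rw [mem_K0, ← e, mul_smul, hm, hm]
  · refine fun e => h ?_
    simp [tw] at e
    simp only [tr2, star_mul', star_star]
    linear_combination e + (star c * r - a.1) * h2

theorem img_card_le {x : Ω} (h : C.MovAt x) : Nat.card (C.LQ.img x) ≤ q ^ 2 := by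
  classical
  obtain ⟨a, ha⟩ := h
  obtain ⟨θ, hθ⟩ : ∃ θ : AddChar (skS F ⧸ C.K0 x) ℂ, θ (QuotientAddGroup.mk a) ≠ 1 :=
    AddChar.exists_apply_ne_zero.2 fun e => ha ((QuotientAddGroup.eq_zero_iff a).1 e)
  have hadd1 : ∀ u v w : F × F, om (u + v) w = om u w + om v w := fun u v w => by
    ext; simp [om, tw]; ring
  have hadd2 : ∀ u v w : F × F, om u (v + w) = om u v + om u w := fun u v w => by
    ext; simp [om, tw]; ring
  have h0 : ∀ u : F × F, om u 0 = 0 := fun u => by ext; simp [om, tw]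
  let P : F × F → AddChar (F × F) ℂ := fun w =>
    { toFun := fun v => θ (QuotientAddGroup.mk (om w v))
      map_zero_eq_one' := by rw [h0, QuotientAddGroup.mk_zero, AddChar.map_zero_eq_one]
      map_add_eq_mul' := fun v v' => by
        rw [hadd2, QuotientAddGroup.mk_add, AddChar.map_add_eq_mul] }
  have hPadd : ∀ u v, P (u + v) = P u * P v := fun u v => DFunLike.ext _ _ fun w => by
    show θ _ = θ _ * θ _
    rw [hadd1, QuotientAddGroup.mk_add, AddChar.map_add_eq_mul]
  have hPinj : Function.Injective P := by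
    intro u v e
    by_contra huv
    set w := u - v with hw
    have hw0 : w ≠ 0 := sub_ne_zero.2 huv
    have htriv : ∀ z, P w z = 1 := fun z => by
      have e1 := DFunLike.congr_fun (hPadd w v) z
      rw [hw, sub_add_cancel, AddChar.mul_apply, DFunLike.congr_fun e z] at e1
      exact (mul_eq_right₀ ((P v).val_isUnit z).ne_zero).1 e1.symm
    refine hθ ?_
    obtain ⟨t, ht⟩ := C.exists_half a.2
    obtain ⟨z, hz⟩ : ∃ z, om w z = a := by
      by_cases h1 : w.1 = 0
      · have h2 : w.2 ≠ 0 := fun h2 => hw0 (Prod.ext h1 h2)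
        refine ⟨(t / star w.2, 0), Subtype.ext ?_⟩
        simp [om, tw, h1]
        rw [← ht]
        field_simp [star_ne_zero.2 h2, h2]
      · refine ⟨(0, t / star w.1), Subtype.ext ?_⟩
        simp [om, tw]
        rw [← ht]
        field_simp [star_ne_zero.2 h1, h1]
    rw [← hz]
    exact htriv z
  have hle : C.LQ.img x ≤ dualAnn P hPadd (C.LQ.img x) := fun v hv w hw => by
    show θ _ = 1
    rw [(QuotientAddGroup.eq_zero_iff _).2 (C.om_mem hv hw), AddChar.map_zero_eq_one]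
  have h1 := AddSubgroup.card_le_of_le hle
  rw [card_dualAnn P hPadd hPinj] at h1
  have h2 := (AddSubgroup.card_eq_card_quotient_mul_card_addSubgroup (C.LQ.img x)).symm
  rw [C.card_W] at h2
  exact Nat.mul_self_le_mul_self_iff.1 ((Nat.mul_le_mul_right _ h1).trans h2.le)

theorem ann_card_ge {x : Ω} (h : C.MovAt x) : q ^ 2 ≤ Nat.card (C.LQ.ann x) := by
  have h1 := C.LQ.card_ann_mul x
  rw [C.card_W] at h1
  refine Nat.le_of_mul_le_mul_right ?_ (show 0 < Nat.card (C.LQ.img x) from Nat.card_pos)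
  rw [h1]
  exact Nat.mul_le_mul_left _ (C.img_card_le h)

/-- The annihilators of moved orbits are singular. -/
def Sing (Ω : Type*) [MulAction G Ω] : Prop :=
  ∀ x : Ω, C.MovAt x → ∀ w ∈ C.LQ.ann x, tr2 w = 0

variable (hS : C.Sing Ω)

include hS

theorem ann_card {x : Ω} (h : C.MovAt x) : Nat.card (C.LQ.ann x) = q ^ 2 :=
  le_antisymm (C.card_singular_le _ (hS x h)) (C.ann_card_ge h)

theorem sw_mem_img {x : Ω} (h : C.MovAt x) {w : F × F} (hw : w ∈ C.LQ.ann x) :
    sw w ∈ C.LQ.img x := by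
  refine C.LQ.mem_img_iff.2 fun v hv => ?_
  rw [show C.LQ.P v (sw w) = C.PQ (sw w) v from C.PQ_symm v (sw w)]
  exact C.PQ_sw (hS x h _ (add_mem hw hv)) (hS x h _ hw) (hS x h _ hv)

theorem real_smul_mem {x : Ω} (h : C.MovAt x) {s : F} (hs : star s = s) {w : F × F}
    (hw : w ∈ C.LQ.ann x) : (s * w.1, s * w.2) ∈ C.LQ.ann x := by
  set A := C.LQ.ann x with hA
  let f : F × F →+ F × F :=
    { toFun := fun v => (s * v.1, s * v.2)
      map_zero' := by simp
      map_add' := fun u v => by simp [mul_add] }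
  have hsing : ∀ v ∈ A ⊔ A.map f, tr2 v = 0 := by
    intro v hv
    obtain ⟨a, ha, b', ⟨b, hb, rfl⟩, rfl⟩ := AddSubgroup.mem_sup.1 hv
    have e1 := hS x h _ (add_mem ha hb)
    have e2 := hS x h _ ha
    have e3 := hS x h _ hb
    rw [tr2_add, e2, e3, zero_add, zero_add] at e1
    rw [tr2_add, e2, zero_add]
    simp only [f, AddMonoidHom.coe_mk, ZeroHom.coe_mk, tr2, star_add, star_mul', star_star, hs] at e1 e3 ⊢
    linear_combination s * e1 + (s * s) * e3
  have h1 := C.card_singular_le _ hsing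
  have h2 : A = A ⊔ A.map f := by
    refine AddSubgroup.eq_of_le_of_card_ge le_sup_left ?_
    rw [hA, C.ann_card hS h]
    exact h1
  rw [h2]
  exact (le_sup_right : A.map f ≤ _) ⟨w, hw, rfl⟩

theorem om_sw_eq_zero {x : Ω} (h : C.MovAt x) {v w : F × F} (hv : v ∈ C.LQ.ann x)
    (hw : w ∈ C.LQ.ann x) : (om (sw v) (sw w)).1 = 0 := by
  by_contra hne
  obtain ⟨a, ha⟩ := h
  have h : C.MovAt x := ⟨a, ha⟩
  have hs : star (a.1 / (om (sw v) (sw w)).1) = a.1 / (om (sw v) (sw w)).1 := by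
    rw [star_div₀, star_skS, star_skS, neg_div_neg_eq]
  have hm := C.om_mem (C.sw_mem_img hS h (C.real_smul_mem hS h hs hv)) (C.sw_mem_img hS h hw)
  refine ha (C.mem_K0.1 ?_)
  convert hm using 1
  refine Subtype.ext ?_
  have e : (om (sw ((a.1 / (om (sw v) (sw w)).1) * v.1, (a.1 / (om (sw v) (sw w)).1) * v.2)) (sw w)).1 =
      (a.1 / (om (sw v) (sw w)).1) * (om (sw v) (sw w)).1 := by
    generalize a.1 / (om (sw v) (sw w)).1 = s at hs ⊢
    simp [om, sw, tw, hs]
    ring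
  rw [e, div_mul_cancel₀ _ hne]

theorem scalar_closed (h2 : (2 : F) ≠ 0) {x : Ω} (h : C.MovAt x) {b : F × F}
    (hb : b ∈ C.LQ.ann x) (l : F) : (l * b.1, l * b.2) ∈ C.LQ.ann x := by
  by_cases hb0 : b = 0
  · simp [hb0, show ((0 : F), (0 : F)) = 0 from rfl]
  have hh : ∀ v ∈ C.LQ.ann x, ∀ w ∈ C.LQ.ann x, v.1 * star w.2 + v.2 * star w.1 = 0 := by
    intro v hv w hw
    have e1 := C.om_sw_eq_zero hS h hv hw
    have e2 := hS x h _ (add_mem hv hw)
    rw [tr2_add, hS x h _ hv, hS x h _ hw, zero_add, zero_add] at e2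
    simp [om, sw, tw] at e1 e2
    have : 2 * (v.1 * star w.2 + v.2 * star w.1) = 0 := by linear_combination e1 + e2
    exact (mul_eq_zero.1 this).resolve_left h2
  have hpar : ∀ v ∈ C.LQ.ann x, ∃ m : F, v = (m * b.1, m * b.2) := by
    intro v hv
    have e1 := hh v hv b hb
    have e2 := hh b hb b hb
    have p1 : star b.1 * (v.2 * b.1 - v.1 * b.2) = 0 := by
      linear_combination b.1 * e1 - v.1 * e2
    have p2 : star b.2 * (v.1 * b.2 - v.2 * b.1) = 0 := by
      linear_combination b.2 * e1 - v.2 * e2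
    by_cases hb1 : b.1 = 0
    · have hb2 : b.2 ≠ 0 := fun e => hb0 (Prod.ext hb1 e)
      have e3 := (mul_eq_zero.1 p2).resolve_left (star_ne_zero.2 hb2)
      rw [hb1, mul_zero, sub_zero] at e3
      refine ⟨v.2 / b.2, Prod.ext ?_ (div_mul_cancel₀ _ hb2).symm⟩
      rw [hb1, mul_zero, (mul_eq_zero.1 e3).resolve_right hb2]
    · have e3 := (mul_eq_zero.1 p1).resolve_left (star_ne_zero.2 hb1)
      refine ⟨v.1 / b.1, Prod.ext (div_mul_cancel₀ _ hb1).symm ?_⟩
      show v.2 = v.1 / b.1 * b.2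
      field_simp
      linear_combination e3
  let g : C.LQ.ann x → F := fun v => (hpar v.1 v.2).choose
  have hg : Function.Bijective g := by
    have hinj : Function.Injective g := fun u v e => Subtype.ext (by
      rw [(hpar u.1 u.2).choose_spec, (hpar v.1 v.2).choose_spec, show
        (hpar u.1 u.2).choose = (hpar v.1 v.2).choose from e])
    refine (Nat.bijective_iff_injective_and_card g).2 ⟨hinj, ?_⟩
    rw [C.ann_card hS h, Nat.card_eq_fintype_card, C.hF]
  obtain ⟨⟨v, hv⟩, e⟩ := hg.2 l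
  rw [← e, ← (hpar v hv).choose_spec]
  exact hv

omit hS in
theorem invQ_multP (p : Layer.Orb C.Qs Ω → Prop)
    (hp : ∀ (g : G) (τ : F × F → F × F), Sym C.LQ g τ → ∀ x : Ω,
      p (Quotient.mk _ (g • x)) ↔ p (Quotient.mk _ x)) : InvQ (C.LQ.multP p) where
  s1 b w := (C.symQ1 b).multP_eq p (hp _ _ (C.symQ1 b)) w
  s2 b w := (C.symQ2 b).multP_eq p (hp _ _ (C.symQ2 b)) w
  sD _ _ h0 h w := (C.symQD h0 h).multP_eq p (hp _ _ (C.symQD h0 h)) w

/-- Invariant counts of moved orbits are constant along the axis. -/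
theorem multP_axis (p : Layer.Orb C.Qs Ω → Prop) (hf : InvQ (C.LQ.multP p))
    (hpM : ∀ o, p o → C.Mov o) {y : F} (hy : y ≠ 0) :
    C.LQ.multP p (0, y) = C.LQ.multP p (0, 1) := by
  by_cases h2 : (2 : F) = 0
  · obtain ⟨s, hs⟩ : ∃ s : F, s * s = (y * star y)⁻¹ := by
      have hinj : Function.Injective fun x : F => x * x := fun a b e => by
        have e' : (a - b) * (a - b) = 0 := by linear_combination (e : a * a = b * b) + (b * b - a * b) * h2
        exact sub_eq_zero.1 (mul_self_eq_zero.1 e')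
      exact (Finite.injective_iff_surjective.1 hinj) _
    have hsr : star s = s := by
      have e : star s * star s = s * s := by
        rw [← star_mul', hs, star_inv₀, norm_star]
      have e' : (star s - s) * (star s - s) = 0 := by
        linear_combination e + (s * s - star s * s) * h2
      exact sub_eq_zero.1 (mul_self_eq_zero.1 e')
    have hs0 : s ≠ 0 := by
      rintro rfl
      simp [hy] at hs
    rw [← hf.real_smul hsr hs0 y]
    refine hf.norm_congr C (mul_ne_zero hs0 hy) ?_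
    rw [star_mul', hsr, show s * y * (s * star y) = s * s * (y * star y) by ring, hs,
      inv_mul_cancel₀ (mul_ne_zero hy (star_ne_zero.2 hy))]
    simp
  · refine Nat.card_congr (Equiv.subtypeEquivRight fun o => and_congr_right fun ho => ?_)
    induction o using Quotient.inductionOn with
    | h x =>
      have hm : C.MovAt x := hpM _ ho
      simp only [Layer.annO_mk]
      constructor
      · intro hw
        simpa [hy] using C.scalar_closed hS h2 hm hw y⁻¹
      · intro hw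
        simpa using C.scalar_closed hS h2 hm hw y

/-- Invariant counts of moved orbits are constant on non-zero iso vectors. -/
theorem multP_iso (p : Layer.Orb C.Qs Ω → Prop) (hf : InvQ (C.LQ.multP p))
    (hpM : ∀ o, p o → C.Mov o) {w : F × F} (hw : w ≠ 0) (hiso : tr2 w = 0) :
    C.LQ.multP p w = C.LQ.multP p (0, 1) := by
  by_cases hy : w.2 = 0
  · obtain ⟨b, hb⟩ := C.exists_beta
    have hx : w.1 ≠ 0 := fun e => hw (Prod.ext e hy)
    rw [show w = (w.1, 0) from Prod.ext rfl hy, hf.iso_left hx b hb]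
    exact C.multP_axis hS p hf hpM (by simp [hb, hx])
  · rw [hf.iso_right hiso hy]
    exact C.multP_axis hS p hf hpM hy

end Data

end CfsgLib.MinIndexPSU4
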