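import Cfsg.Agent.Lib.MinIndexPSU4.Structure

/-!
The transvection groups of the isotropic vectors and their fixed points.
-/

set_option autoImplicit false
set_option linter.unusedSectionVars false

namespace CfsgLib.MinIndexPSU4

open Matrix CfsgLib.MinDeg Finset

/-- The arithmetic of the double count. -/
theorem points_arith {q f d X : ℕ} (hq : 2 ≤ q) (hf1 : 1 ≤ f) (hfq : f ≤ q)
    (hd : d = (q + 1) * q ^ 3 + f) (h : d * X = (q ^ 2 + 1) * (q ^ 3 + 1) * f) : False := by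
  subst hd
  rcases Nat.lt_or_ge X (q ^ 2 + 1) with hX | hX
  · obtain ⟨D, hD⟩ : ∃ D, q ^ 2 + 1 = X + (D + 1) := ⟨q ^ 2 - X, by omega⟩
    have h1 : f * (D + 1) + f * (q ^ 2 + 1) * q ^ 3 = X * ((q + 1) * q ^ 3) := by
      have : (q ^ 2 + 1) * f = X * f + (D + 1) * f := by rw [hD]; ring
      nlinarith
    have hX0 : 1 ≤ X := by
      rcases Nat.eq_zero_or_pos X with rfl | h0
      · simp at h1; omega
      · exact h0
    have hdvd : q ^ 3 ∣ f * (D + 1) := by
      have h2 : q ^ 3 ∣ f * (D + 1) + f * (q ^ 2 + 1) * q ^ 3 := ⟨X * (q + 1), by rw [h1]; ring⟩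
      exact (Nat.dvd_add_left (Dvd.intro_left _ rfl)).1 h2
    have hle : f * (D + 1) ≤ q * q ^ 2 := Nat.mul_le_mul hfq (by omega)
    have hge := Nat.le_of_dvd (Nat.mul_pos hf1 (show 0 < D + 1 by omega)) hdvd
    have hq2 : 0 < q ^ 2 := pow_pos (by omega) 2
    have hD' : D + 1 = q ^ 2 := by
      rcases Nat.lt_or_ge (D + 1) (q ^ 2) with h3 | h3
      · have : f * (D + 1) < q * q ^ 2 :=
          lt_of_le_of_lt (Nat.mul_le_mul_right _ hfq) (Nat.mul_lt_mul_of_pos_left h3 (by omega))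
        have : q ^ 3 = q * q ^ 2 := by ring
        omega
      · omega
    have hfq' : f = q := by
      rw [hD'] at hge
      have : q * q ^ 2 ≤ f * q ^ 2 := le_trans (le_of_eq (by ring)) hge
      exact le_antisymm hfq (Nat.le_of_mul_le_mul_right this hq2)
    have hX1 : X = 1 := by omega
    subst hX1 hfq'
    rw [mul_one] at h
    nlinarith [Nat.pow_le_pow_left hq 3, Nat.pow_le_pow_left hq 2]
  · have h1 : ((q + 1) * q ^ 3 + f) * (q ^ 2 + 1) ≤ (q ^ 2 + 1) * (q ^ 3 + 1) * f :=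
      h ▸ Nat.mul_le_mul_left _ hX
    have h2 : ((q + 1) * q ^ 3 + f) ≤ (q ^ 3 + 1) * f :=
      Nat.le_of_mul_le_mul_right (le_of_le_of_eq h1 (by ring)) (by omega)
    have h3 : (q + 1) * q ^ 3 ≤ f * q ^ 3 := by nlinarith
    have := Nat.le_of_mul_le_mul_right h3 (pow_pos (by omega) 3)
    omega

variable {F : Type*} [Field F] [StarRing F]

/-- The vectors. -/
abbrev Vec (F : Type*) := Fin 2 ⊕ Fin 2 → F

/-- A transvection. -/
def ttr (v : Vec F) (a : F) : Matrix (Fin 2 ⊕ Fin 2) (Fin 2 ⊕ Fin 2) F :=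
  1 + a • vecMulVec v (star v ᵥ* formJ 2 1)

/-- Isotropy. -/
def IsoV (v : Vec F) : Prop := star v ⬝ᵥ (formJ 2 (1 : F)) *ᵥ v = 0

/-- The standard isotropic vector. -/
def v0 : Vec F := Sum.elim ![1, 0] 0

theorem isoV_elim (u w : Fin 2 → F) :
    IsoV (Sum.elim u w) ↔ star u ⬝ᵥ w + star w ⬝ᵥ u = 0 := by
  rw [IsoV, formJ, fromBlocks_mulVec]
  simp [dotProduct, Fintype.sum_sum_type]

theorem v0_ne : (v0 : Vec F) ≠ 0 := fun h => by simpa [v0] using congrFun h (.inl 0)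

theorem isoV_v0 : IsoV (v0 : Vec F) := by
  rw [v0, isoV_elim]; simp

theorem ttr_v0 (a : skS F) : ttr (v0 : Vec F) a.1 = upperU (skM a 0 0).1 := by
  have e : star (v0 : Vec F) ᵥ* formJ 2 1 = Sum.elim (0 : Fin 2 → F) ![1, 0] := by
    rw [formJ, vecMul_fromBlocks]
    ext (i | i) <;> fin_cases i <;> simp [v0, vecMul, dotProduct]
  rw [ttr, e, upperU]
  ext (i | i) (j | j) <;> simp [vecMulVec_apply, v0, skM, Matrix.one_apply] <;>
    fin_cases i <;> fin_cases j <;> simp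

theorem ttr_smul (l : F) (v : Vec F) (a : F) : ttr (l • v) a = ttr v (l * star l * a) := by
  rw [ttr, ttr, star_smul, smul_vecMul, vecMulVec_smul, smul_vecMulVec, smul_smul, smul_smul]
  congr 1
  congr 1
  ring

theorem ttr_map {H : Matrix (Fin 2 ⊕ Fin 2) (Fin 2 ⊕ Fin 2) F}
    (hH : Hᴴ * formJ 2 1 * H = formJ 2 1) (v : Vec F) (a : F) :
    ttr (H *ᵥ v) a * H = H * ttr v a := by
  rw [ttr, ttr, Matrix.add_mul, Matrix.mul_add, Matrix.one_mul, Matrix.mul_one, Matrix.smul_mul,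
    Matrix.mul_smul, vecMulVec_mul, mul_vecMulVec]
  congr 3
  rw [star_mulVec, vecMul_vecMul, vecMul_vecMul, ← Matrix.mul_assoc, hH]

theorem isoV_map {H : Matrix (Fin 2 ⊕ Fin 2) (Fin 2 ⊕ Fin 2) F}
    (hH : Hᴴ * formJ 2 1 * H = formJ 2 1) {v : Vec F} (hv : IsoV v) : IsoV (H *ᵥ v) := by
  rw [IsoV, mulVec_mulVec, star_mulVec, ← dotProduct_mulVec, mulVec_mulVec, ← Matrix.mul_assoc, hH]
  exact hv

variable [Fintype F] {q : ℕ} {G : Type*} [Group G] [Finite G]

namespace Data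

variable (C : Data F q G)

theorem f_inv_mul (g : G) : C.D.f g⁻¹ * C.D.f g = 1 ∧ C.D.f g * C.D.f g⁻¹ = 1 := by
  constructor <;> rw [← map_mul] <;> simp

theorem iso_map (g : G) {v : Vec F} (hv : IsoV v) : IsoV (C.D.f g *ᵥ v) :=
  isoV_map (C.D.isometry g) hv

theorem f_mulVec_ne (g : G) {v : Vec F} (hv : v ≠ 0) : C.D.f g *ᵥ v ≠ 0 := fun h => hv (by
  have := congrArg (fun w => C.D.f g⁻¹ *ᵥ w) h
  simpa [mulVec_mulVec, (C.f_inv_mul g).1] using this)

theorem exists_reach {u w : Fin 2 → F} (hiso : IsoV (Sum.elim u w)) (h0 : Sum.elim u w ≠ 0) :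
    ∃ g, C.D.f g *ᵥ v0 = Sum.elim u w := by
  have he : (![1, 0] : Fin 2 → F) ≠ 0 := fun h => by simpa using congrFun h 0
  have hlevi : ∀ B : Matrix (Fin 2) (Fin 2) F, B.det = 1 → ∀ u w : Fin 2 → F,
      ∃ g, C.D.f g *ᵥ Sum.elim u w = Sum.elim (B *ᵥ u) ((B⁻¹)ᴴ *ᵥ w) := fun B hB u w => by
    refine ⟨C.lv ⟨B, by rw [hB]; exact one_ne_zero, by rw [hB, star_one]⟩, ?_⟩
    rw [f_lv, leviM, fromBlocks_mulVec]
    simp
  by_cases hw : w = 0
  · subst hw
    have hu : u ≠ 0 := fun e => h0 (by rw [e]; ext (i | i) <;> simp)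
    obtain ⟨B, hB, hBu⟩ := exists_det_one_mulVec le_rfl ![1, 0] u he hu
    obtain ⟨g, hg⟩ := hlevi B hB ![1, 0] 0
    exact ⟨g, by rw [v0, hg, hBu, mulVec_zero]⟩
  -- reach the vector `(0, w)`
  obtain ⟨β, hβ⟩ := C.exists_beta
  have hm : -(1 / β.1) ∈ skS F := by
    rw [mem_skS, star_neg, star_div₀, star_skS, star_one, div_neg, neg_neg]
  obtain ⟨g₁, hg₁⟩ : ∃ g, C.D.f g *ᵥ v0 = Sum.elim (0 : Fin 2 → F) (β.1 • ![1, 0]) := by
    refine ⟨C.D.upper (skM ⟨_, hm⟩ 0 ⟨_, hm⟩) * C.D.lower (skM β 0 β), ?_⟩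
    rw [map_mul, C.D.upper_spec, C.D.lower_spec, ← mulVec_mulVec, lowerU, v0, fromBlocks_mulVec,
      upperU, fromBlocks_mulVec]
    ext (i | i) <;> fin_cases i <;> simp [skM, mulVec, dotProduct, hβ]
  have hB1 : β.1 • (![1, 0] : Fin 2 → F) ≠ 0 := smul_ne_zero hβ he
  obtain ⟨B, hB, hBw⟩ := exists_det_one_mulVec le_rfl _ w hB1 hw
  have hA : ((B⁻¹)ᴴ).det = 1 := by rw [det_conjTranspose, det_nonsing_inv, hB]; simp
  obtain ⟨g₂, hg₂⟩ := hlevi _ hA (0 : Fin 2 → F) (β.1 • ![1, 0])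
  have eB : (((B⁻¹)ᴴ)⁻¹)ᴴ = B := by
    rw [conjTranspose_nonsing_inv B, nonsing_inv_nonsing_inv _ (by rw [det_conjTranspose, hB]; simp),
      conjTranspose_conjTranspose]
  rw [eB, mulVec_zero, hBw] at hg₂
  -- adjust the first component
  obtain ⟨B', hB', hB'w⟩ := exists_det_one_mulVec le_rfl ![1, 0] w he hw
  have hB'u : IsUnit B'.det := by rw [hB']; exact isUnit_one
  set u' := B'ᴴ *ᵥ u with hu'
  have hsk : u' 0 ∈ skS F := by
    have e : u' 0 = star w ⬝ᵥ u := by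
      rw [← hB'w, star_mulVec, ← dotProduct_mulVec, hu']
      simp [dotProduct, Fin.sum_univ_two]
    rw [mem_skS, e, ← star_dotProduct_star, star_star]
    rw [isoV_elim] at hiso
    linear_combination hiso
  let H' := skM ⟨u' 0, hsk⟩ (-star (u' 1)) 0
  let H : skewPart 2 (1 : F) := ⟨(B'⁻¹)ᴴ * H'.1 * ((B'⁻¹)ᴴ)ᴴ, congr_mem _ H'.2⟩
  refine ⟨C.D.upper H * g₂ * g₁, ?_⟩
  rw [map_mul, map_mul, ← mulVec_mulVec, hg₁, ← mulVec_mulVec, hg₂, C.D.upper_spec, upperU,
    fromBlocks_mulVec]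
  congr 1
  · have e : (B'⁻¹) *ᵥ w = ![1, 0] := by
      rw [← hB'w, mulVec_mulVec, nonsing_inv_mul _ hB'u, one_mulVec]
    have e2 : H'.1 *ᵥ ![1, 0] = u' := by
      ext i; fin_cases i <;> simp [H', skM, mulVec, dotProduct]
    rw [one_mulVec, Sum.elim_comp_inl, Sum.elim_comp_inr, zero_add]
    show ((B'⁻¹)ᴴ * H'.1 * ((B'⁻¹)ᴴ)ᴴ) *ᵥ w = u
    rw [conjTranspose_conjTranspose, ← mulVec_mulVec, e, ← mulVec_mulVec, e2, hu', mulVec_mulVec,
      ← conjTranspose_mul, mul_nonsing_inv _ hB'u, conjTranspose_one, one_mulVec]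
  · simp

include C in
theorem card_iso_vectors :
    Nat.card {v : Vec F // IsoV v ∧ v ≠ 0} = (q ^ 4 - 1) * (q ^ 3 + 1) := by
  classical
  have hV : Nat.card (Fin 2 → F) = q ^ 4 := by
    rw [Nat.card_fun, Nat.card_fin, Nat.card_eq_fintype_card, C.hF]; ring
  let e : {v : Vec F // IsoV v ∧ v ≠ 0} ≃
      Σ w : Fin 2 → F, {u : Fin 2 → F // IsoV (Sum.elim u w) ∧ Sum.elim u w ≠ 0} :=
    { toFun := fun v => ⟨v.1 ∘ Sum.inr, v.1 ∘ Sum.inl, by rw [Sum.elim_comp_inl_inr]; exact v.2⟩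
      invFun := fun p => ⟨Sum.elim p.2.1 p.1, p.2.2⟩
      left_inv := fun v => Subtype.ext (Sum.elim_comp_inl_inr v.1)
      right_inv := fun p => by simp }
  rw [Nat.card_congr e, Nat.card_sigma, ← Finset.add_sum_erase univ _ (mem_univ (0 : Fin 2 → F))]
  have h0 : Nat.card {u : Fin 2 → F // IsoV (Sum.elim u 0) ∧ Sum.elim u (0 : Fin 2 → F) ≠ 0} =
      q ^ 4 - 1 := by
    rw [Nat.card_eq_fintype_card, Fintype.card_subtype, ← hV, Nat.card_eq_fintype_card, ← card_univ,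
      ← card_erase_of_mem (mem_univ (0 : Fin 2 → F))]
    congr 1
    ext u
    simp only [mem_filter, mem_univ, true_and, mem_erase, and_true, isoV_elim]
    constructor
    · rintro ⟨-, h⟩ rfl
      exact h (by ext (i | i) <;> simp)
    · exact fun h => ⟨by simp, fun e => h (funext fun i => congrFun e (.inl i))⟩
  have h1 : ∀ w ∈ univ.erase (0 : Fin 2 → F),
      Nat.card {u : Fin 2 → F // IsoV (Sum.elim u w) ∧ Sum.elim u w ≠ 0} = q ^ 3 := by
    intro w hw
    have hw0 := (mem_erase.1 hw).1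
    obtain ⟨B, hB, hBw⟩ := exists_det_one_mulVec le_rfl ![1, 0] w
      (fun h => by simpa using congrFun h 0) hw0
    have hBu : IsUnit B.det := by rw [hB]; exact isUnit_one
    have hBhu : IsUnit (Bᴴ).det := by rw [det_conjTranspose, hB]; simp
    have key : ∀ u : Fin 2 → F, IsoV (Sum.elim u w) ↔ (Bᴴ *ᵥ u) 0 ∈ skS F := fun u => by
      have e : (Bᴴ *ᵥ u) 0 = star w ⬝ᵥ u := by
        rw [← hBw, star_mulVec, ← dotProduct_mulVec]
        simp [dotProduct, Fin.sum_univ_two]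
      rw [isoV_elim, mem_skS, e, ← star_dotProduct_star, star_star, dotProduct_comm (star u) w]
      exact ⟨fun h => by linear_combination h, fun h => by linear_combination h⟩
    have eu : {u : Fin 2 → F // IsoV (Sum.elim u w) ∧ Sum.elim u w ≠ 0} ≃ skS F × F :=
      { toFun := fun u => (⟨(Bᴴ *ᵥ u.1) 0, (key _).1 u.2.1⟩, (Bᴴ *ᵥ u.1) 1)
        invFun := fun p => ⟨(Bᴴ)⁻¹ *ᵥ ![p.1.1, p.2], (key _).2 (by
            rw [mulVec_mulVec, mul_nonsing_inv _ hBhu, one_mulVec]; exact p.1.2),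
          fun h => hw0 (funext fun i => congrFun h (.inr i))⟩
        left_inv := fun u => Subtype.ext (by
          show (Bᴴ)⁻¹ *ᵥ ![(Bᴴ *ᵥ u.1) 0, (Bᴴ *ᵥ u.1) 1] = u.1
          rw [show (![(Bᴴ *ᵥ u.1) 0, (Bᴴ *ᵥ u.1) 1] : Fin 2 → F) = Bᴴ *ᵥ u.1 by
            ext i; fin_cases i <;> rfl, mulVec_mulVec, nonsing_inv_mul _ hBhu, one_mulVec])
        right_inv := fun p => by
          have e : Bᴴ *ᵥ ((Bᴴ)⁻¹ *ᵥ ![p.1.1, p.2]) = ![p.1.1, p.2] := by
            rw [mulVec_mulVec, mul_nonsing_inv _ hBhu, one_mulVec]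
          exact Prod.ext (Subtype.ext (congrFun e 0)) (congrFun e 1) }
    rw [Nat.card_congr eu, Nat.card_prod, C.card_skS, Nat.card_eq_fintype_card, C.hF]
    ring
  rw [h0, Finset.sum_congr rfl h1, Finset.sum_const, card_erase_of_mem (mem_univ _), card_univ,
    ← Nat.card_eq_fintype_card, hV, smul_eq_mul]
  ring

variable {Ω : Type*} [MulAction G Ω] [Finite Ω]

/-- The points fixed by the transvection group of a vector. -/
def FixAt (v : Vec F) (x : Ω) : Prop :=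
  ∀ g : G, ∀ a : skS F, C.D.f g = ttr v a.1 → g • x = x

theorem fixAt_v0 (x : Ω) : C.FixAt v0 x ↔ ¬ C.MovAt x := by
  have e : ∀ a : skS F, C.D.f (C.qe 0 0 a) = ttr (v0 : Vec F) a.1 := fun a => by
    rw [ttr_v0, f_qe, upperU, skM, one2]
    simp [← zero2]
  constructor
  · exact fun h ⟨a, ha⟩ => ha (h _ a (e a))
  · intro h g a hg
    rw [show g = C.qe 0 0 a from C.D.inj (hg.trans (e a).symm)]
    by_contra hne
    exact h ⟨a, hne⟩

theorem fixAt_map (h : G) (v : Vec F) (x : Ω) :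
    C.FixAt (C.D.f h *ᵥ v) (h • x) ↔ C.FixAt v x := by
  constructor
  · intro H g a hg
    have := H (h * g * h⁻¹) a (by
      rw [map_mul, map_mul, hg, ← ttr_map (C.D.isometry h), Matrix.mul_assoc, (C.f_inv_mul h).2,
        Matrix.mul_one])
    rwa [mul_smul, mul_smul, inv_smul_smul, smul_left_cancel_iff] at this
  · intro H g a hg
    have := H (h⁻¹ * g * h) a (by
      rw [map_mul, map_mul, hg, Matrix.mul_assoc, ttr_map (C.D.isometry h), ← Matrix.mul_assoc,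
        (C.f_inv_mul h).1, Matrix.one_mul])
    rwa [mul_smul, mul_smul, inv_smul_eq_iff] at this

theorem fixAt_smul {l : F} {v : Vec F} {x : Ω} (h : C.FixAt v x) : C.FixAt (l • v) x := by
  intro g a hg
  rw [ttr_smul] at hg
  exact h g ⟨l * star l * a.1, norm_smul_mem l a⟩ hg

/-- The double count excludes points fixed by a transvection group. -/
theorem no_fixed [MulAction.IsPretransitive G Ω] {f : ℕ} (hf : f ≤ q)
    (hd : Nat.card Ω = (q + 1) * q ^ 3 + f) (hcard : Nat.card {x : Ω // ¬ C.MovAt x} = f) :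
    f = 0 := by
  classical
  by_contra hf0
  have hf1 : 1 ≤ f := Nat.pos_of_ne_zero hf0
  haveI : Fintype Ω := Fintype.ofFinite Ω
  let P := {v : Vec F // IsoV v ∧ v ≠ 0}
  have hrow : ∀ v : P, Nat.card {x : Ω // C.FixAt v.1 x} = f := by
    intro v
    obtain ⟨g, hg⟩ := C.exists_reach (u := v.1 ∘ Sum.inl) (w := v.1 ∘ Sum.inr)
      (by rw [Sum.elim_comp_inl_inr]; exact v.2.1) (by rw [Sum.elim_comp_inl_inr]; exact v.2.2)
    rw [Sum.elim_comp_inl_inr] at hg
    rw [← hcard, ← hg]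
    exact Nat.card_congr ((MulAction.toPerm g).subtypeEquiv fun x => by
      rw [MulAction.toPerm_apply, C.fixAt_map, C.fixAt_v0]).symm
  let S : Ω → Type _ := fun x => {v : P // C.FixAt v.1 x}
  have hcol : ∀ (g : G) (x : Ω), Nat.card (S (g • x)) = Nat.card (S x) := fun g x => by
    let e : P ≃ P :=
      { toFun := fun v => ⟨C.D.f g *ᵥ v.1, C.iso_map g v.2.1, C.f_mulVec_ne g v.2.2⟩
        invFun := fun v => ⟨C.D.f g⁻¹ *ᵥ v.1, C.iso_map g⁻¹ v.2.1, C.f_mulVec_ne g⁻¹ v.2.2⟩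
        left_inv := fun v => Subtype.ext (by simp [mulVec_mulVec, (C.f_inv_mul g).1])
        right_inv := fun v => Subtype.ext (by simp [mulVec_mulVec, (C.f_inv_mul g).2]) }
    exact Nat.card_congr (e.subtypeEquiv fun v => (C.fixAt_map g v.1 x).symm).symm
  obtain ⟨x₀⟩ : Nonempty Ω := (Nat.card_pos_iff.1 (by omega)).1
  have htot : Nat.card Ω * Nat.card (S x₀) = (q ^ 4 - 1) * (q ^ 3 + 1) * f := by
    have e : (Σ x : Ω, S x) ≃ Σ v : P, {x : Ω // C.FixAt v.1 x} :=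
      { toFun := fun p => ⟨p.2.1, p.1, p.2.2⟩
        invFun := fun p => ⟨p.2.1, p.1, p.2.2⟩
        left_inv := fun p => rfl
        right_inv := fun p => rfl }
    have hc := Nat.card_congr e
    rw [Nat.card_sigma, Nat.card_sigma,
      Finset.sum_congr rfl fun x _ => (show Nat.card (S x) = Nat.card (S x₀) by
        obtain ⟨g, rfl⟩ := MulAction.exists_smul_eq G x₀ x
        exact hcol g x₀),
      Finset.sum_congr rfl fun v _ => hrow v, Finset.sum_const, Finset.sum_const, card_univ,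
      card_univ, smul_eq_mul, smul_eq_mul, ← Nat.card_eq_fintype_card, ← Nat.card_eq_fintype_card,
      C.card_iso_vectors] at hc
    exact hc
  obtain ⟨X, hX⟩ : q ^ 2 - 1 ∣ Nat.card (S x₀) := by
    letI : MulAction Fˣ (S x₀) :=
      { smul := fun l v => ⟨⟨(l : F) • v.1.1, by
          have h := v.1.2.1
          rw [IsoV, star_smul, mulVec_smul, dotProduct_smul, smul_dotProduct]
          unfold IsoV at h
          rw [h, smul_zero, smul_zero],
          smul_ne_zero l.ne_zero v.1.2.2⟩, C.fixAt_smul v.2⟩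
        one_smul := fun v => Subtype.ext (Subtype.ext (one_smul F v.1.1))
        mul_smul := fun l m v => Subtype.ext (Subtype.ext (mul_smul (l : F) (m : F) v.1.1)) }
    haveI : Fintype (Quotient (MulAction.orbitRel Fˣ (S x₀))) := Fintype.ofFinite _
    rw [Nat.card_congr (MulAction.selfEquivSigmaOrbits Fˣ (S x₀)), Nat.card_sigma]
    refine Finset.dvd_sum fun o _ => dvd_of_eq ?_
    generalize Quotient.out o = v
    have hinj : Function.Injective fun l : Fˣ =>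
        (⟨l • v, ⟨l, rfl⟩⟩ : MulAction.orbit Fˣ v) := fun l m e => Units.ext (by
      have h : (l : F) • v.1.1 = (m : F) • v.1.1 :=
        congrArg (fun y : MulAction.orbit Fˣ v => y.1.1.1) e
      exact smul_left_injective F v.1.2.2 h)
    rw [← Nat.card_congr (Equiv.ofBijective _ ⟨hinj, fun y => by
      obtain ⟨_, l, rfl⟩ := y
      exact ⟨l, rfl⟩⟩), Nat.card_units, Nat.card_eq_fintype_card, C.hF]
  have h4 : q ^ 4 - 1 = (q ^ 2 - 1) * (q ^ 2 + 1) := by
    rw [show q ^ 4 = (q ^ 2) ^ 2 by ring, MinDeg.sq_sub_one]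
  rw [hX, h4] at htot
  refine points_arith C.q_two hf1 hf hd (X := X) (Nat.eq_of_mul_eq_mul_left
    (show 0 < q ^ 2 - 1 by have : 4 ≤ q ^ 2 := Nat.pow_le_pow_left C.q_two 2; omega) ?_)
  linear_combination htot

end Data

end CfsgLib.MinIndexPSU4
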