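import Cfsg.Agent.Lib.MinIndexPSU4.Moved

/-!
A non-trivial transitive action of degree below `(q + 1)(q³ + 1)` has, for the point radical,
`q + 1` orbits of length `q³` and at most `q` fixed points.
-/

set_option autoImplicit false
set_option linter.unusedSectionVars false

namespace CfsgLib.MinIndexPSU4

open Matrix CfsgLib.MinDeg Finset

/-- A simple bound used for small fibres. -/
theorem num_big {q : ℕ} (hq : 3 ≤ q) :
    (q + 1) * (q ^ 3 + 1) ≤ (q ^ 2 + 1) * (q * (q - 1) ^ 2) + 1 := by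
  obtain ⟨r, rfl⟩ : ∃ r, q = r + 3 := ⟨q - 3, by omega⟩
  rw [show r + 3 - 1 = r + 2 from by omega]
  ring_nf
  have : r ^ 4 ≤ r ^ 4 + r ^ 5 := Nat.le_add_right _ _
  omega

theorem num_two_k {q k : ℕ} (hq : 3 ≤ q) (hk : 2 ≤ k) :
    (q + 1) * (q ^ 3 + 1) ≤ (q ^ 2 + 1) * (q * ((q - 1) * k)) + 1 := by
  refine le_trans ?_ (Nat.add_le_add_right (Nat.mul_le_mul_left (q ^ 2 + 1)
    (Nat.mul_le_mul_left q (Nat.mul_le_mul_left (q - 1) hk))) 1)
  obtain ⟨r, rfl⟩ : ∃ r, q = r + 3 := ⟨q - 3, by omega⟩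
  rw [show r + 3 - 1 = r + 2 from by omega]
  ring_nf
  omega

variable {F : Type*} [Field F] [StarRing F] [Fintype F] {q : ℕ} {G : Type*} [Group G] [Finite G]

theorem card_fiber {M Ω : Type*} [Group M] [MulAction M Ω] (x : Ω) :
    Nat.card {y : Ω // (Quotient.mk _ y : Layer.Orb M Ω) = Quotient.mk _ x} =
      Nat.card (MulAction.orbit M x) :=
  Nat.card_congr (Equiv.subtypeEquivRight fun _ =>
    ⟨fun h => Quotient.exact h, fun h => Quotient.sound h⟩)

namespace Data

variable (C : Data F q G) {Ω : Type*} [MulAction G Ω] [Finite Ω]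

theorem movAt_of_sym {g : G} {τ : F × F → F × F} (S : Sym C.LQ g τ) {x : Ω} (h : C.MovAt x) :
    C.MovAt (g • x) := by
  obtain ⟨a, ha⟩ := h
  obtain ⟨m', e, hP⟩ := S.conj (C.qs (0, 0, a))
  have h0 : C.LQ.co m' = 0 := by
    refine C.PQ_inj (DFunLike.ext _ _ fun w => ?_)
    have h1 := hP w
    rw [LQ_co] at h1
    rw [C.PQ_symm, C.PQ_symm 0]
    refine h1.trans ?_
    show C.PQ _ (0 : F × F) = C.PQ w 0
    rw [AddChar.map_zero_eq_one, AddChar.map_zero_eq_one]
  obtain ⟨a', rfl⟩ := C.mem_ker.1 (C.LQ.co_eq_zero.1 h0)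
  refine ⟨a', fun hx => ha ?_⟩
  change C.qe 0 0 a' = g * C.qe 0 0 a * g⁻¹ at e
  rw [e, mul_smul, mul_smul, inv_smul_smul] at hx
  exact smul_left_cancel g hx

theorem movAt_sym_iff {g : G} {τ : F × F → F × F} (S : Sym C.LQ g τ) (x : Ω) :
    C.MovAt (g • x) ↔ C.MovAt x := by
  refine ⟨fun h => ?_, C.movAt_of_sym S⟩
  have key : ∀ j : ℕ, C.MovAt (g ^ j • g • x) := by
    intro j
    induction j with
    | zero => simpa using h
    | succ j ih => rw [pow_succ', mul_smul]; exact C.movAt_of_sym S ih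
  have h1 := key (orderOf g - 1)
  rwa [← mul_smul, ← pow_succ, Nat.sub_add_cancel (orderOf_pos g), pow_orderOf_eq_one, one_smul] at h1

/-- The length of an orbit. -/
noncomputable def len (o : Layer.Orb C.Qs Ω) : ℕ :=
  Nat.card {y : Ω // (Quotient.mk _ y : Layer.Orb C.Qs Ω) = o}

theorem len_mk (x : Ω) : C.len (Quotient.mk _ x : Layer.Orb C.Qs Ω) =
    Nat.card (MulAction.orbit C.LQ.φ.ker x) * Nat.card (C.LQ.ann x) := by
  rw [len, card_fiber, C.LQ.card_orbit]

theorem len_sym {g : G} {τ : F × F → F × F} (S : Sym C.LQ g τ) (x : Ω) :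
    C.len (Quotient.mk _ (g • x) : Layer.Orb C.Qs Ω) = C.len (Quotient.mk _ x : Layer.Orb C.Qs Ω) := by
  rw [len, len, card_fiber, card_fiber]
  exact S.card_orbit x

theorem len_le (o : Layer.Orb C.Qs Ω) : C.len o ≤ Nat.card Ω :=
  Finite.card_subtype_le _

theorem sum_len [Fintype (Layer.Orb C.Qs Ω)] :
    Nat.card Ω = ∑ o : Layer.Orb C.Qs Ω, C.len o := by
  unfold len
  rw [← Nat.card_congr (Equiv.sigmaFiberEquiv (Quotient.mk _ : Ω → Layer.Orb C.Qs Ω)),
    Nat.card_sigma]

theorem invQ_mov : InvQ (C.LQ.multP (C.Mov (Ω := Ω))) :=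
  C.invQ_multP _ fun _ _ S x => C.movAt_sym_iff S x

theorem invQ_notMov : InvQ (C.LQ.multP fun o : Layer.Orb C.Qs Ω => ¬ C.Mov o) :=
  C.invQ_multP _ fun _ _ S x => not_congr (C.movAt_sym_iff S x)

theorem invQ_size (s : ℕ) :
    InvQ (C.LQ.multP fun o : Layer.Orb C.Qs Ω => C.Mov o ∧ C.len o = s) :=
  C.invQ_multP _ fun _ _ S x => and_congr (C.movAt_sym_iff S x) (by rw [C.len_sym S x])

theorem mult_split (w : F × F) :
    C.muQ Ω w = C.LQ.multP (C.Mov (Ω := Ω)) w +
      C.LQ.multP (fun o : Layer.Orb C.Qs Ω => ¬ C.Mov o) w := by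
  classical
  haveI := Fintype.ofFinite (Layer.Orb C.Qs Ω)
  simp only [muQ, Layer.mult, Layer.multP, Nat.card_eq_fintype_card, Fintype.card_subtype]
  rw [← card_union_of_disjoint]
  · congr 1
    ext o
    simp only [mem_union, mem_filter, mem_univ, true_and]
    tauto
  · rw [disjoint_filter]
    tauto

/-- The equations of the Siegel layer. -/
theorem card_omega_U [Fintype C.Qs] [Fintype C.Us] [Fintype (skS F)] :
    Nat.card Ω = C.muU Ω 0 + (q ^ 2 + 1) * ((q - 1) * C.aU Ω + q * C.SU Ω) := by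
  rw [C.card_omega_eq, C.sum_muQ, C.B1_eq]
  obtain ⟨r, hr⟩ : ∃ r, q = r + 1 := ⟨q - 1, by have := C.q_two; omega⟩
  subst hr
  simp only [Nat.add_sub_cancel]
  ring

theorem SU_ge_e [Fintype C.Qs] [Fintype C.Us] [Fintype (skS F)] :
    (q - 1) ^ 2 * C.eQ' Ω ≤ C.SU Ω := by
  have h := C.B1_C1 Ω
  rw [C.B1_eq, MinDeg.sq_sub_one] at h
  have h1 : (q + 1) * ((q - 1) ^ 2 * C.eQ' Ω) ≤ (q + 1) * C.SU Ω := by
    rw [h, sq]
    refine le_trans (le_of_eq ?_) (Nat.le_add_left _ _)
    ring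
  exact Nat.le_of_mul_le_mul_left h1 (by omega)

variable (hd : Nat.card Ω < (q + 1) * (q ^ 3 + 1))

include hd

theorem sing_big [Fintype C.Qs] [Fintype C.Us] [Fintype (skS F)] (hq : 3 ≤ q) : C.Sing Ω := by
  intro x _ w hw
  by_contra h
  have h1 : 1 ≤ C.eQ' Ω := by
    rw [← C.muQ_aniso Ω h]
    exact C.LQ.mult_pos hw
  have hne : Nonempty Ω := ⟨x⟩
  have h0 : 1 ≤ C.muU Ω 0 := by
    haveI : Nonempty (Layer.Orb C.Us Ω) := hne.map (Quotient.mk _)
    rw [muU, C.LU.mult_zero]
    exact Nat.card_pos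
  have h2 := C.card_omega_U (Ω := Ω)
  have h3 : (q - 1) ^ 2 ≤ C.SU Ω :=
    le_trans (Nat.le_mul_of_pos_right _ h1) (C.SU_ge_e (Ω := Ω))
  have h4 : (q ^ 2 + 1) * (q * (q - 1) ^ 2) ≤ (q ^ 2 + 1) * ((q - 1) * C.aU Ω + q * C.SU Ω) :=
    Nat.mul_le_mul_left _ ((Nat.mul_le_mul_left q h3).trans (Nat.le_add_left _ _))
  have := num_big hq
  omega

theorem sing_two (hq : q = 2) : C.Sing Ω := by
  intro x hx
  subst hq
  have hd' : Nat.card Ω < 27 := by simpa using hd
  have h2 : (2 : F) = 0 := by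
    have := FiniteField.cast_card_eq_zero F
    rw [C.hF] at this
    have h4 : (2 : F) * 2 = 0 := by exact_mod_cast this
    simpa using h4
  have hker : Nat.card (MulAction.orbit C.LQ.φ.ker x) = 2 :=
    le_antisymm (Nat.le_of_dvd (by norm_num) (C.card_kerOrbit_dvd x)) (C.kerOrbit_two hx)
  have hprod := C.LQ.card_ann_mul x
  rw [C.card_W] at hprod
  have hlen : 2 * Nat.card (C.LQ.ann x) < 27 := by
    have h := (C.len_le (Quotient.mk _ x : Layer.Orb C.Qs Ω)).trans_lt hd'
    rwa [C.len_mk, hker] at h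
  have hK : ∀ a ∈ C.K0 x, (a : F) = 0 := by
    intro a ha
    by_contra hne
    obtain ⟨b, hb⟩ := hx
    have hc : Nat.card (skS F) = 2 := C.card_skS
    obtain ⟨u, v, huv, huniv⟩ := Nat.card_eq_two_iff.1 hc
    have hb0 : (b : F) ≠ 0 := by
      intro e
      refine hb ?_
      rw [show b = 0 from Subtype.ext e, qe_one, one_smul]
    have : a = b := by
      have h0 : ∀ w : skS F, w = u ∨ w = v := fun w => by
        have : w ∈ ({u, v} : Set (skS F)) := huniv ▸ Set.mem_univ w
        simpa using this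
      have n1 : a ≠ 0 := fun e => hne (by rw [e]; rfl)
      have n2 : b ≠ 0 := fun e => hb0 (by rw [e]; rfl)
      rcases h0 a with ha' | ha' <;> rcases h0 b with hb' | hb' <;> rcases h0 0 with h' | h' <;>
        first
          | exact ha'.trans hb'.symm
          | exact absurd (ha'.trans h'.symm) n1
          | exact absurd (hb'.trans h'.symm) n2
    exact hb (this ▸ ha)
  have himgS : ∀ v ∈ C.LQ.img x, tr2 v = 0 := fun v hv =>
    (C.sq_mem hv h2).elim id fun ⟨a, ha, ha0⟩ => absurd (hK a ha) ha0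
  have hi := C.img_card_le hx
  have hi4 : Nat.card (C.LQ.img x) = 4 := by
    have hle : Nat.card (C.LQ.img x) ≤ 4 := by simpa using hi
    norm_num at hprod
    have hpos : 0 < Nat.card (C.LQ.img x) := Nat.card_pos
    by_contra hne
    have h12 : Nat.card (C.LQ.img x) = 2 := by
      interval_cases hi' : Nat.card (C.LQ.img x) <;> omega
    obtain ⟨u, v, huv, huniv⟩ := Nat.card_eq_two_iff.1 h12
    have hall : ∀ w : C.LQ.img x, w = u ∨ w = v := fun w => by
      have : w ∈ ({u, v} : Set _) := huniv ▸ Set.mem_univ w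
      simpa using this
    obtain ⟨v, hv0, hall⟩ : ∃ v : C.LQ.img x, v.1 ≠ 0 ∧ ∀ w : C.LQ.img x, w.1 ≠ 0 → w = v := by
      rcases eq_or_ne u.1 0 with h0 | h0
      · refine ⟨v, fun e => huv (Subtype.ext (h0.trans e.symm)), fun w hw => ?_⟩
        exact (hall w).resolve_left fun e => hw (by rw [e, h0])
      · refine ⟨u, h0, fun w hw => ?_⟩
        rcases hall 0 with e | e
        · exact absurd (by rw [← e]; rfl) h0
        · exact (hall w).resolve_right fun e' => hw (by rw [e', ← e]; rfl)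
    have hann : Nat.card (C.LQ.ann x) = 8 := by rw [h12] at hprod; omega
    -- a second orbit of the same length does not fit
    have hsame : ∀ {g : G} {τ : F × F → F × F}, Sym C.LQ g τ → C.LQ.img (g • x) = C.LQ.img x := by
      intro g τ S
      by_cases e : (Quotient.mk _ (g • x) : Layer.Orb C.Qs Ω) = Quotient.mk _ x
      · obtain ⟨n, hn⟩ := Quotient.exact e
        rw [← hn]
        exact C.LQ.img_smul n x
      exfalso
      classical
      haveI := Fintype.ofFinite (Layer.Orb C.Qs Ω)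
      have hs := C.sum_len (Ω := Ω)
      have h16 : C.len (Quotient.mk _ x : Layer.Orb C.Qs Ω) = 16 := by rw [C.len_mk, hker, hann]
      have := Finset.sum_le_sum_of_subset (f := C.len) (Finset.subset_univ
        ({Quotient.mk _ (g • x), Quotient.mk _ x} : Finset (Layer.Orb C.Qs Ω)))
      rw [Finset.sum_pair e, C.len_sym S, h16] at this
      omega
    obtain ⟨β, hβ⟩ := C.exists_beta
    obtain ⟨m, hm, hmv⟩ := C.LQ.mem_img.1 v.2
    obtain ⟨⟨r, c, a⟩, rfl⟩ := C.qs_bij.2 m
    rw [LQ_co] at hmv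
    change C.qe r c a • x = x at hm
    have k1 : (r, c - r * β.1) ∈ C.LQ.img x := by
      rw [← hsame (C.symQ1 β)]
      refine ⟨C.qs (r, c - r * β.1, a - ⟨β.1 * (r * star r), norm_mul_mem β r⟩), ?_, LQ_co C _⟩
      show C.qe r (c - r * β.1) _ • C.g1 β • x = C.g1 β • x
      rw [← mul_smul, ← C.g1_mul β r c a, mul_smul, hm]
    have k2 : (r - c * β.1, c) ∈ C.LQ.img x := by
      rw [← hsame (C.symQ2 β)]
      refine ⟨C.qs (r - c * β.1, c, a + ⟨β.1 * (c * star c), norm_mul_mem β c⟩), ?_, LQ_co C _⟩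
      show C.qe (r - c * β.1) c _ • C.g2 β • x = C.g2 β • x
      rw [← mul_smul, ← C.g2_mul β r c a, mul_smul, hm]
    refine hv0 ?_
    rw [← hmv]
    have hne' : (r, c) ≠ (0 : F × F) := fun e => hv0 (hmv ▸ e)
    have hr : r = 0 := by
      by_contra hr
      have := hall ⟨_, k1⟩ fun e => hr (congrArg Prod.fst e :)
      have h' := congrArg (fun w : C.LQ.img x => w.1.2) this
      rw [← hmv] at h'
      simp [hr, hβ] at h'
    have hc : c = 0 := by
      by_contra hc
      have := hall ⟨_, k2⟩ fun e => hc (congrArg Prod.snd e :)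
      have h' := congrArg (fun w : C.LQ.img x => w.1.1) this
      rw [← hmv] at h'
      simp [hc, hβ] at h'
    rw [hr, hc]
    rfl
  have hann : Nat.card (C.LQ.ann x) = 4 := by rw [hi4] at hprod; norm_num at hprod; omega
  intro w hw
  have hbij : Function.Bijective fun v : C.LQ.img x =>
      (⟨sw v.1, C.sw_mem_dualAnn _ himgS v.2⟩ : C.LQ.ann x) :=
    (Nat.bijective_iff_injective_and_card _).2 ⟨fun u v e => Subtype.ext (sw_inj (Subtype.ext_iff.1 e)),
      by rw [hi4, hann]⟩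
  obtain ⟨v, hv⟩ := hbij.2 ⟨w, hw⟩
  have hv' : sw v.1 = w := congrArg Subtype.val hv
  rw [← hv', tr2_sw]
  exact himgS _ v.2

theorem sing [Fintype C.Qs] [Fintype C.Us] [Fintype (skS F)] : C.Sing Ω := by
  rcases Nat.lt_or_ge q 3 with h | h
  · exact C.sing_two hd (by have := C.q_two; omega)
  · exact C.sing_big hd h

/-- The structure of the orbits of the point radical. -/
theorem structure_orbits [Fintype C.Qs] [Fintype C.Us] [Fintype (skS F)]
    (hU : ∃ (x : Ω) (m : C.Us), m • x ≠ x) :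
    ∃ f : ℕ, f ≤ q ∧ Nat.card Ω = (q + 1) * q ^ 3 + f ∧ Nat.card {x : Ω // ¬ C.MovAt x} = f ∧
      C.muU Ω 0 + q = f + q ^ 2 + 2 := by
  classical
  have hS : C.Sing Ω := C.sing hd
  haveI := Fintype.ofFinite (Layer.Orb C.Qs Ω)
  have hq := C.q_two
  set M := univ.filter (C.Mov (Ω := Ω)) with hM
  set R := univ.filter (fun o : Layer.Orb C.Qs Ω => ¬ C.Mov o) with hR
  -- annihilators
  have hann : ∀ o ∈ M, Nat.card (C.LQ.annO o) = q ^ 2 := by
    intro o ho
    induction o using Quotient.inductionOn with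
    | h x => exact C.ann_card hS (mem_filter.1 ho).2
  have hlenR : ∀ o ∈ R, C.len o = Nat.card (C.LQ.annO o) := by
    intro o ho
    induction o using Quotient.inductionOn with
    | h x => rw [C.len_mk, C.kerOrbit_one (mem_filter.1 ho).2, one_mul, Layer.annO_mk]
  have hlenM : ∀ o ∈ M, 2 * q ^ 2 ≤ C.len o := by
    intro o ho
    induction o using Quotient.inductionOn with
    | h x =>
      rw [C.len_mk, C.ann_card hS (mem_filter.1 ho).2]
      exact Nat.mul_le_mul_right _ (C.kerOrbit_two (mem_filter.1 ho).2)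
  set k := C.LQ.multP (C.Mov (Ω := Ω)) (0, 1) with hk
  have hiso : ∀ w : F × F, w ≠ 0 → tr2 w = 0 → C.LQ.multP (C.Mov (Ω := Ω)) w = k :=
    fun w h1 h2 => C.multP_iso hS _ (C.invQ_mov) (fun _ h => h) h1 h2
  have haniso : ∀ w : F × F, tr2 w ≠ 0 → C.LQ.multP (C.Mov (Ω := Ω)) w = 0 := by
    intro w h
    refine Nat.card_eq_zero.2 (Or.inl ⟨?_⟩)
    rintro ⟨o, ho, hw⟩
    induction o using Quotient.inductionOn with
    | h x => exact h (hS x ho w hw)
  -- the count of moved orbits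
  have ht : #M = (q + 1) * k := by
    have h1 := C.LQ.sum_multP (C.Mov (Ω := Ω))
    rw [← hM, Finset.sum_congr rfl hann, Finset.sum_const, smul_eq_mul,
      ← Finset.add_sum_erase univ _ (mem_univ (0 : F × F))] at h1
    have h0 : C.LQ.multP (C.Mov (Ω := Ω)) 0 = #M := by
      rw [hM, Layer.multP, Nat.card_eq_fintype_card, Fintype.card_subtype]
      congr 1
      ext o
      simp [zero_mem]
    have hcount : #((univ.erase (0 : F × F)).filter fun w => tr2 w = 0) = (q + 1) * (q ^ 2 - 1) := by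
      have e : ((univ.erase (0 : F × F)).filter fun w => tr2 w = 0) =
          (univ : Finset F).biUnion fun y => ({x : F | tr2 (x, y) = 0 ∧ (x, y) ≠ 0} : Finset F).map
            ⟨fun x => (x, y), fun a b h => congrArg Prod.fst h⟩ := by
        ext ⟨x, y⟩
        simp only [mem_filter, mem_erase, mem_univ, and_true, true_and, mem_biUnion, mem_map]
        constructor
        · exact fun h => ⟨y, x, ⟨h.2, h.1⟩, rfl⟩
        · rintro ⟨y', x', ⟨h2, h1⟩, h3⟩
          change (x', y') = (x, y) at h3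
          rw [← h3]
          exact ⟨h1, h2⟩
      rw [e, card_biUnion (fun y _ y' _ hne => by
        rw [Function.onFun, disjoint_left]
        rintro ⟨a, b⟩ h1 h2
        simp only [mem_map, Function.Embedding.coeFn_mk, Prod.mk.injEq] at h1 h2
        obtain ⟨_, -, -, rfl⟩ := h1
        obtain ⟨_, -, -, rfl⟩ := h2
        exact hne rfl), ← Finset.add_sum_erase univ _ (mem_univ (0 : F))]
      simp only [card_map]
      have e0 : ({x : F | tr2 (x, 0) = 0 ∧ (x, (0 : F)) ≠ 0} : Finset F) = univ.erase 0 := by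
        ext x; simp [tr2]
      rw [e0, card_erase_of_mem (mem_univ _), card_univ, C.hF,
        Finset.sum_congr rfl fun y hy => (show #({x : F | tr2 (x, y) = 0 ∧ (x, y) ≠ 0} : Finset F) = q by
          rw [← C.card_iso_fiber (mem_erase.1 hy).1]
          congr 1
          ext x
          simp [(mem_erase.1 hy).1]),
        Finset.sum_const, card_erase_of_mem (mem_univ _), card_univ, C.hF, smul_eq_mul]
      ring
    rw [h0, ← Finset.sum_filter_add_sum_filter_not (univ.erase (0 : F × F)) (fun w => tr2 w = 0),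
      Finset.sum_congr rfl fun w hw => hiso w (mem_erase.1 (mem_filter.1 hw).1).1 (mem_filter.1 hw).2,
      Finset.sum_congr rfl fun w hw => haniso w (mem_filter.1 hw).2, Finset.sum_const,
      Finset.sum_const, smul_eq_mul, smul_eq_mul, mul_zero, add_zero, hcount] at h1
    obtain ⟨r, hr⟩ : ∃ r, q ^ 2 = r + 1 := ⟨q ^ 2 - 1, by
      have : 4 ≤ q ^ 2 := Nat.pow_le_pow_left hq 2
      omega⟩
    rw [hr, Nat.add_sub_cancel, mul_add, mul_one, add_comm (#M * r)] at h1
    have hr0 : 0 < r := by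
      have : 4 ≤ q ^ 2 := Nat.pow_le_pow_left hq 2
      omega
    refine Nat.eq_of_mul_eq_mul_right hr0 ?_
    have h2 := Nat.add_left_cancel h1
    rw [← h2]
    ring
  have hsplit : Nat.card Ω = ∑ o ∈ M, C.len o + ∑ o ∈ R, Nat.card (C.LQ.annO o) := by
    rw [C.sum_len, ← Finset.sum_filter_add_sum_filter_not univ (C.Mov (Ω := Ω)),
      Finset.sum_congr rfl hlenR]
  have hsumQ : ∑ w : F × F, C.muQ Ω w = #M * q ^ 2 + ∑ o ∈ R, Nat.card (C.LQ.annO o) := by
    simp only [muQ]
    rw [C.LQ.sum_mult, ← Finset.sum_filter_add_sum_filter_not univ (C.Mov (Ω := Ω)),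
      Finset.sum_congr rfl hann, Finset.sum_const, smul_eq_mul]
  have hext : ∑ o ∈ M, C.len o = #M * q ^ 2 + (q - 1) * q ^ 2 * (C.aU Ω + C.SU Ω) := by
    have h1 := C.card_omega_eq (Ω := Ω)
    rw [hsplit, hsumQ] at h1
    omega
  -- some orbit is moved
  have hk1 : 1 ≤ k := by
    by_contra h
    have hk0 : k = 0 := by omega
    have hM0 : #M = 0 := by rw [ht, hk0, mul_zero]
    rw [Finset.card_eq_zero.1 hM0] at hext
    simp only [Finset.sum_empty, Finset.card_empty, zero_mul, zero_add] at hext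
    have h1 : C.aU Ω = 0 ∧ C.SU Ω = 0 := by
      rcases Nat.mul_eq_zero.1 hext.symm with h0 | h0
      · rcases Nat.mul_eq_zero.1 h0 with h' | h'
        · omega
        · have := (pow_pos (show 0 < q by omega) 2)
          omega
      · omega
    obtain ⟨x, m, hm⟩ := hU
    have htop : C.LU.img x ≠ ⊤ := by
      intro e
      obtain ⟨n, hn, hn'⟩ := C.LU.mem_img.1 (e ▸ AddSubgroup.mem_top (C.LU.co m) : C.LU.co m ∈ C.LU.img x)
      obtain ⟨H, rfl⟩ := C.us_bij.2 n
      obtain ⟨H', rfl⟩ := C.us_bij.2 m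
      rw [LU_co, LU_co] at hn'
      subst hn'
      exact hm hn
    refine htop (eq_top_iff.2 fun v _ => C.LU.mem_img_iff.2 fun X hX => ?_)
    by_cases hX0 : X = 0
    · rw [hX0]
      show C.PU 0 v = 1
      simp [PU_apply]
    exfalso
    have h2 : 1 ≤ C.muU Ω X := C.LU.mult_pos hX
    by_cases hdet : X.1.det = 0
    · rw [C.muU_rank_one Ω hX0 hdet, h1.1] at h2; omega
    · rw [C.muU_rank_two Ω hdet] at h2
      have h3 : C.gU Ω X.1.det ≤ C.SU Ω := by
        rw [SU]
        exact Finset.single_le_sum (fun _ _ => Nat.zero_le _) (by simp [hdet, det_mem_real])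
      rw [h1.2] at h3
      omega
  -- exactly one
  have hC1 : ∀ y ∈ univ.filter (fun x : F => x ≠ 0), k ≤ C.cQ Ω y := fun y hy => by
    rw [← hiso (0, y) (by simp [(mem_filter.1 hy).2]) (by simp [tr2])]
    exact C.LQ.multP_le _ _
  have hSk : (q - 1) * k ≤ C.SU Ω := by
    have h1 : (q ^ 2 - 1) * k ≤ C.C1 Ω := by
      have := Finset.card_nsmul_le_sum _ _ k hC1
      rwa [smul_eq_mul, filter_ne', card_erase_of_mem (mem_univ _), card_univ, C.hF,
        show (∑ x ∈ univ.erase 0, C.cQ Ω x) = C.C1 Ω by rw [C1, filter_ne']] at this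
    have h2 := C.B1_C1 Ω
    rw [C.B1_eq] at h2
    refine Nat.le_of_mul_le_mul_left ?_ (show 0 < q + 1 by omega)
    rw [← mul_assoc, mul_comm (q + 1) (q - 1), ← MinDeg.sq_sub_one]
    omega
  have hne : Nonempty Ω := ⟨hU.choose⟩
  have h0U : 1 ≤ C.muU Ω 0 := by
    haveI : Nonempty (Layer.Orb C.Us Ω) := hne.map (Quotient.mk _)
    rw [muU, C.LU.mult_zero]
    exact Nat.card_pos
  have hk_one : k = 1 := by
    by_contra hk'
    have hk2 : 2 ≤ k := by omega
    rcases Nat.lt_or_ge q 3 with hq3 | hq3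
    · obtain rfl : q = 2 := by omega
      have h1 := Finset.card_nsmul_le_sum M C.len _ hlenM
      rw [smul_eq_mul, ht] at h1
      have : Nat.card Ω < 27 := by simpa using hd
      norm_num at h1
      omega
    · have h2 := C.card_omega_U (Ω := Ω)
      have h3 : (q ^ 2 + 1) * (q * ((q - 1) * k)) ≤
          (q ^ 2 + 1) * ((q - 1) * C.aU Ω + q * C.SU Ω) :=
        Nat.mul_le_mul_left _ ((Nat.mul_le_mul_left q hSk).trans (Nat.le_add_left _ _))
      have := num_two_k hq3 hk2
      omega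
  rw [hk_one, mul_one] at ht
  -- all moved orbits have the same length
  obtain ⟨o₀, ho₀⟩ : M.Nonempty := Finset.card_pos.1 (by omega)
  have hsame : ∀ o ∈ M, C.len o = C.len o₀ := by
    have key : ∀ o ∈ M, 0 < C.LQ.multP (fun o' : Layer.Orb C.Qs Ω => C.Mov o' ∧ C.len o' = C.len o) (0, 1) := by
      intro o ho
      induction o using Quotient.inductionOn with
      | h x =>
        have hx : C.MovAt x := (mem_filter.1 ho).2
        obtain ⟨w, hw, hw0⟩ : ∃ w ∈ C.LQ.ann x, w ≠ 0 := by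
          by_contra hcon
          push Not at hcon
          have h1 := C.ann_card hS hx
          rw [(AddSubgroup.eq_bot_iff_forall _).2 hcon, AddSubgroup.card_bot] at h1
          have : 4 ≤ q ^ 2 := Nat.pow_le_pow_left hq 2
          omega
        rw [← C.multP_iso hS _ (C.invQ_size _) (fun _ h => h.1) hw0 (hS x hx w hw)]
        exact Nat.card_pos_iff.2 ⟨⟨⟨Quotient.mk _ x, ⟨hx, rfl⟩, hw⟩⟩, inferInstance⟩
    intro o ho
    obtain ⟨⟨⟨a, ⟨ha, hla⟩, hwa⟩⟩, -⟩ := Nat.card_pos_iff.1 (key o ho)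
    obtain ⟨⟨⟨b, ⟨hb, hlb⟩, hwb⟩⟩, -⟩ := Nat.card_pos_iff.1 (key o₀ ho₀)
    have hsub := (Nat.card_eq_one_iff_unique.1 (hk.symm.trans hk_one)).1
    have e := congrArg Subtype.val (Subsingleton.elim
      (⟨a, ha, hwa⟩ : {o : Layer.Orb C.Qs Ω // C.Mov o ∧ (0, 1) ∈ C.LQ.annO o}) ⟨b, hb, hwb⟩)
    simp only at e
    rw [← hla, ← hlb, e]
  obtain ⟨z, hz2, hzd, hlen0⟩ : ∃ z, 2 ≤ z ∧ z ∣ q ∧ C.len o₀ = z * q ^ 2 := by
    induction o₀ using Quotient.inductionOn with
    | h x =>
      exact ⟨_, C.kerOrbit_two (mem_filter.1 ho₀).2, C.card_kerOrbit_dvd x,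
        by rw [C.len_mk, C.ann_card hS (mem_filter.1 ho₀).2]⟩
  rw [Finset.sum_congr rfl hsame, Finset.sum_const, smul_eq_mul, hlen0, ht] at hext
  have hzeq : (q + 1) * z = (q + 1) + (q - 1) * (C.aU Ω + C.SU Ω) := by
    refine Nat.eq_of_mul_eq_mul_right ((pow_pos (show 0 < q by omega) 2)) ?_
    linear_combination hext
  have hz : z = q := by
    obtain ⟨z', hz'⟩ := hzd
    by_contra hne'
    have hz'2 : 2 ≤ z' := by
      rcases Nat.lt_or_ge z' 2 with h | h
      · interval_cases z' <;> simp at hz' <;> omega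
      · exact h
    have h2z : 2 * z ≤ q := by rw [hz', mul_comm]; exact Nat.mul_le_mul_left z hz'2
    -- `q - 1` would divide `2 * (z - 1)`
    obtain ⟨r, rfl⟩ : ∃ r, q = r + 1 := ⟨q - 1, by omega⟩
    obtain ⟨s, rfl⟩ : ∃ s, z = s + 1 := ⟨z - 1, by omega⟩
    rw [Nat.add_sub_cancel] at hzeq
    have h3 : r ∣ 2 * s := by
      have h4 : r ∣ r * s + 2 * s := by
        refine ⟨C.aU Ω + C.SU Ω, ?_⟩
        linear_combination hzeq
      exact (Nat.dvd_add_right (Dvd.intro s rfl)).1 h4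
    have := Nat.le_of_dvd (by omega) h3
    omega
  rw [hz] at hzeq hlen0
  have haS : C.aU Ω + C.SU Ω = q + 1 := by
    obtain ⟨r, rfl⟩ : ∃ r, q = r + 1 := ⟨q - 1, by omega⟩
    rw [Nat.add_sub_cancel] at hzeq
    refine Nat.eq_of_mul_eq_mul_left (show 0 < r by omega) ?_
    linear_combination -hzeq
  have hMsum : ∑ o ∈ M, C.len o = (q + 1) * q ^ 3 := by
    rw [Finset.sum_congr rfl hsame, Finset.sum_const, smul_eq_mul, ht, hlen0]
    ring
  rw [hMsum] at hsplit
  set rest := ∑ o ∈ R, Nat.card (C.LQ.annO o) with hrest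
  have hrq : rest ≤ q := by
    have e : (q + 1) * (q ^ 3 + 1) = (q + 1) * q ^ 3 + q + 1 := by ring
    omega
  -- nothing else is moved
  have hnot : ∀ w : F × F, w ≠ 0 → C.LQ.multP (fun o : Layer.Orb C.Qs Ω => ¬ C.Mov o) w = 0 := by
    intro w hw0
    by_contra hne'
    have hpos : 0 < C.LQ.multP (fun o : Layer.Orb C.Qs Ω => ¬ C.Mov o) w := Nat.pos_of_ne_zero hne'
    have hsum := C.LQ.sum_multP (fun o : Layer.Orb C.Qs Ω => ¬ C.Mov o)
    rw [← hR, ← hrest] at hsum
    have inv := C.invQ_notMov (Ω := Ω)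
    have hlow : ∀ T : Finset (F × F), (∀ v ∈ T, 0 < C.LQ.multP (fun o : Layer.Orb C.Qs Ω => ¬ C.Mov o) v) →
        #T ≤ rest := fun T hT => by
      rw [← hsum, Finset.card_eq_sum_ones]
      exact (Finset.sum_le_sum hT).trans (Finset.sum_le_sum_of_subset (subset_univ T))
    by_cases hw : tr2 w = 0
    · obtain ⟨y, hy, hwy⟩ : ∃ y : F, y ≠ 0 ∧ 0 < C.LQ.multP (fun o : Layer.Orb C.Qs Ω => ¬ C.Mov o) (0, y) := by
        by_cases h2 : w.2 = 0
        · obtain ⟨b, hb⟩ := C.exists_beta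
          have hx : w.1 ≠ 0 := fun e => hw0 (Prod.ext e h2)
          refine ⟨-(b.1 * w.1), by simp [hb, hx], ?_⟩
          rw [← inv.iso_left hx b hb]
          rwa [show w = (w.1, 0) from Prod.ext rfl h2] at hpos
        · exact ⟨w.2, h2, by rwa [← inv.iso_right hw h2]⟩
      have h := hlow (({z : F | z * star z = y * star y} : Finset F).map
        ⟨fun z => (0, z), fun a b h => congrArg Prod.snd h⟩) fun v hv => by
          obtain ⟨z, hz', rfl⟩ := mem_map.1 hv
          show 0 < C.LQ.multP _ (0, z)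
          rw [← inv.norm_congr C hy (mem_filter.1 hz').2.symm]
          exact hwy
      rw [card_map, C.card_norm_fiber (norm_star y) (mul_ne_zero hy (star_ne_zero.2 hy))] at h
      omega
    · have h0 : 0 < C.LQ.multP (fun o : Layer.Orb C.Qs Ω => ¬ C.Mov o) 0 := by
        obtain ⟨⟨⟨o, ho, -⟩⟩, -⟩ := Nat.card_pos_iff.1 hpos
        exact Nat.card_pos_iff.2 ⟨⟨⟨o, ho, zero_mem _⟩⟩, inferInstance⟩
      have h := hlow (insert 0 (({x : F | ¬ tr2 (x, 1) = 0} : Finset F).map
        ⟨fun x => (x, 1), fun a b h => congrArg Prod.fst h⟩)) fun v hv => by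
          rcases mem_insert.1 hv with rfl | hv
          · exact h0
          obtain ⟨x, hx, rfl⟩ := mem_map.1 hv
          show 0 < C.LQ.multP _ (x, 1)
          rw [inv.aniso_congr C (mem_filter.1 hx).2 hw]
          exact hpos
      rw [card_insert_of_notMem (fun hm => by
        obtain ⟨x, -, e⟩ := mem_map.1 hm
        exact one_ne_zero (congrArg Prod.snd e)), card_map, filter_not,
        card_sdiff_of_subset (filter_subset _ _), C.card_iso_fiber one_ne_zero, card_univ, C.hF] at h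
      have : 2 * q ≤ q ^ 2 := by rw [sq]; exact Nat.mul_le_mul_right q hq
      omega
  -- the values of the multiplicities
  have he : C.eQ' Ω = 0 := by
    obtain ⟨x, hx⟩ : ∃ x : F, tr2 (x, 1) ≠ 0 := by
      obtain ⟨t, ht'⟩ := C.exists_t0
      exact ⟨t, by simpa [tr2] using ht'⟩
    rw [← C.muQ_aniso Ω hx, C.mult_split, haniso _ hx, hnot _ (by simp)]
  have hc : C.C1 Ω = q ^ 2 - 1 := by
    rw [C1, Finset.sum_congr rfl fun y hy => (show C.cQ Ω y = 1 by
      have h : ((0, y) : F × F) ≠ 0 := by simp [(mem_filter.1 hy).2]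
      rw [cQ, C.mult_split, hiso _ h (by simp [tr2]), hnot _ h, hk_one]),
      Finset.sum_const, smul_eq_mul, mul_one, filter_ne', card_erase_of_mem (mem_univ _),
      card_univ, C.hF]
  have hSU : C.SU Ω = q - 1 := by
    have h2 := C.B1_C1 Ω
    rw [C.B1_eq, hc, he, mul_zero, mul_zero, add_zero, MinDeg.sq_sub_one, mul_comm (q - 1)] at h2
    exact Nat.eq_of_mul_eq_mul_left (by omega) h2
  have ha : C.aU Ω = 2 := by omega
  have hRbot : ∀ o ∈ R, Nat.card (C.LQ.annO o) = 1 := by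
    intro o ho
    have : C.LQ.annO o = ⊥ := (AddSubgroup.eq_bot_iff_forall _).2 fun w hw => by
      by_contra hw0
      have := hnot w hw0
      rcases Nat.card_eq_zero.1 this with h | h
      · exact h.elim ⟨o, (mem_filter.1 ho).2, hw⟩
      · exact h.not_finite inferInstance
    rw [this, AddSubgroup.card_bot]
  have hrR : rest = #R := by
    rw [hrest, Finset.sum_congr rfl hRbot, Finset.sum_const, smul_eq_mul, mul_one]
  refine ⟨rest, hrq, hsplit, ?_, ?_⟩
  · rw [hrest, ← Finset.sum_congr rfl hlenR]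
    rw [← Finset.sum_coe_sort R]
    rw [show (∑ o : R, C.len o.1) = ∑ o : R, Nat.card {y : Ω // (Quotient.mk _ y : Layer.Orb C.Qs Ω) = o.1}
      from rfl, ← Nat.card_sigma]
    refine Nat.card_congr
      { toFun := fun x => ⟨⟨Quotient.mk _ x.1, mem_filter.2 ⟨mem_univ _, x.2⟩⟩, x.1, rfl⟩
        invFun := fun p => ⟨p.2.1, by
          have h := (mem_filter.1 p.1.2).2
          rwa [← p.2.2] at h⟩
        left_inv := fun x => rfl
        right_inv := fun p => by
          obtain ⟨⟨o, ho⟩, y, hy⟩ := p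
          simp only at hy
          subst hy
          rfl }
  · have h1 := C.sum_row_zero Ω
    have h0 : C.muQ Ω 0 = (q + 1) + rest := by
      rw [muQ, C.LQ.mult_zero, Nat.card_eq_fintype_card, ← card_univ,
        ← Finset.card_filter_add_card_filter_not (C.Mov (Ω := Ω)), ← hM, ← hR, ht, hrR]
    rw [h0, hc, ha] at h1
    obtain ⟨r, rfl⟩ : ∃ r, q = r + 1 := ⟨q - 1, by omega⟩
    have : (r + 1) ^ 2 = r * r + 2 * r + 1 := by ring
    rw [Nat.add_sub_cancel, this] at h1
    rw [this]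
    omega

end Data

end CfsgLib.MinIndexPSU4
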